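import Mathlib
import Groth.Agent.Unibranch.Local

/-!
Geometrically unibranch primes of a domain and the normalisation map.
-/

set_option autoImplicit false
set_option linter.style.haveILetI false

universe u

open AlgebraicGeometry CategoryTheory

namespace Groth.Agent.UnibranchEtale

variable (A : Type u) [CommRing A] [IsDomain A] (K : Type u) [Field K] [Algebra A K] [IsFractionRing A K]

theorem guAt_of_equiv {R R₀ : Type u} [CommRing R] [CommRing R₀] (e : R ≃+* R₀) (P : Ideal R) (P₀ : Ideal R₀)
    (h : P₀.comap e.toRingHom = P) (hG : Unibranch.GUAt R₀ P₀) : Unibranch.GUAt R P := by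
  obtain ⟨R', _, _, _, hn, hi, hf, q, hq, hr⟩ := hG
  letI : Algebra R R' := ((algebraMap R₀ R').comp e.toRingHom).toAlgebra
  refine ⟨R', inferInstance, inferInstance, inferInstance, hn, ⟨fun x => ?_⟩, ?_, q, ?_, fun z => ?_⟩
  · obtain ⟨f, hf1, hf2⟩ := hi.isIntegral x
    refine ⟨f.map e.symm.toRingHom, hf1.map _, ?_⟩
    change Polynomial.eval₂ ((algebraMap R₀ R').comp e.toRingHom) x (f.map e.symm.toRingHom) = 0
    rw [Polynomial.eval₂_map, RingHom.comp_assoc, e.toRingHom_comp_symm_toRingHom, RingHom.comp_id]
    exact hf2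
  · exact (faithfulSMul_iff_algebraMap_injective _ _).2
      ((FaithfulSMul.algebraMap_injective R₀ R').comp e.injective)
  · let e' : R ⧸ P ≃+* R₀ ⧸ P₀ := Ideal.quotientEquiv P P₀ e (by
      rw [← h]
      exact (Ideal.map_comap_of_surjective e.toRingHom e.surjective P₀).symm)
    haveI := hq
    exact expChar_of_injective_ringHom (f := e'.symm.toRingHom) e'.symm.injective q
  · obtain ⟨n, s, a, hs, hQ⟩ := hr z
    refine ⟨n, e.symm s, e.symm a, fun h' => hs ?_, fun Q hQp hQe => ?_⟩
    · rw [← h, Ideal.mem_comap] at h'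
      simpa using h'
    · change (algebraMap R₀ R') (e (e.symm s)) * z ^ q ^ n - (algebraMap R₀ R') (e (e.symm a)) ∈ Q
      rw [e.apply_symm_apply, e.apply_symm_apply]
      refine hQ Q hQp (Ideal.comap_injective_of_surjective e.toRingHom e.surjective ?_)
      rw [Ideal.comap_comap, h]
      exact hQe

/-- Geometrically unibranch primes of a domain in terms of its normalisation. -/
theorem isGeomUnibranch_iff_radOver (p : Ideal A) [p.IsPrime] :
    CAlg2.IsGeomUnibranch (Localization.AtPrime p) ↔ Unibranch.RadOver A (integralClosure A K) p := by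
  constructor
  · intro h
    obtain ⟨p₀, hp₀, hle, hmin, hG⟩ := Unibranch.exists_guAt_of_isGeomUnibranch p (Localization.AtPrime p) h
    have h0 : p₀ = ⊥ := le_bot_iff.1 (hmin ⊥ Ideal.isPrime_bot bot_le)
    subst h0
    obtain ⟨R₁, _, _, _, hn, hi, hf, hr⟩ :=
      guAt_of_equiv (RingEquiv.quotientBot A).symm p (p.map (Ideal.Quotient.mk ⊥)) (by
        change (p.map (Ideal.Quotient.mk (⊥ : Ideal A))).comap (Ideal.Quotient.mk (⊥ : Ideal A)) = p
        rw [Ideal.comap_map_of_surjective _ Ideal.Quotient.mk_surjective, ← RingHom.ker_eq_comap_bot,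
          Ideal.mk_ker, sup_bot_eq]) hG
    let L := FractionRing R₁
    have hRL : Function.Injective (algebraMap A L) := by
      rw [IsScalarTower.algebraMap_eq A R₁ L]
      exact (IsFractionRing.injective R₁ L).comp (FaithfulSMul.algebraMap_injective A R₁)
    let κ : K →ₐ[A] L :=
      { IsFractionRing.lift (K := K) hRL with
        commutes' := fun r => IsFractionRing.lift_algebraMap hRL r }
    have hR₁ : IsIntegralClosure R₁ A L :=
      ⟨IsFractionRing.injective R₁ L, fun {x} ↦ ⟨fun hx ↦
        (IsIntegrallyClosed.isIntegral_iff (R := R₁)).mp hx.tower_top,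
        fun ⟨y, hy⟩ ↦ hy ▸ (hi.isIntegral y).algebraMap⟩⟩
    let j₀ : integralClosure A K →ₐ[A] L := κ.comp (integralClosure A K).val
    letI := j₀.toRingHom.toAlgebra
    haveI : IsScalarTower A (integralClosure A K) L :=
      IsScalarTower.of_algebraMap_eq fun r ↦ (j₀.commutes r).symm
    let j : integralClosure A K →ₐ[A] R₁ := IsIntegralClosure.lift A R₁ L
    have hjc : ∀ z, algebraMap R₁ L (j z) = j₀ z := IsIntegralClosure.algebraMap_lift A R₁ L
    have hj : Function.Injective j := fun a b e ↦ by
      have := congrArg (algebraMap R₁ L) e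
      rw [hjc, hjc] at this
      exact Subtype.ext (κ.toRingHom.injective this)
    have hji : j.toRingHom.IsIntegral :=
      RingHom.IsIntegral.tower_top (algebraMap A (integralClosure A K)) j.toRingHom
        (by rw [j.toRingHom_eq_coe, j.comp_algebraMap]; exact fun x ↦ hi.isIntegral x)
    exact hr.of_injective j hj hji
  · intro h
    have hinj : Function.Injective (algebraMap A (integralClosure A K)) := fun a b e =>
      IsFractionRing.injective A K (congrArg Subtype.val e)
    have hG : Unibranch.GUAt A p :=
      ⟨integralClosure A K, inferInstance, inferInstance, inferInstance,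
        Unibranch.isIntegrallyClosed_integralClosure, inferInstance,
        (faithfulSMul_iff_algebraMap_injective _ _).2 hinj, h⟩
    refine Unibranch.isGeomUnibranch_of_guAt p ⊥ (Localization.AtPrime p) bot_le (fun p' _ _ => bot_le) fun _ => ?_
    refine guAt_of_equiv (RingEquiv.quotientBot A) _ p ?_ hG
    ext x
    obtain ⟨y, rfl⟩ := Ideal.Quotient.mk_surjective x
    have hy : Ideal.Quotient.mk (⊥ : Ideal A) y = (RingEquiv.quotientBot A).symm y := rfl
    rw [hy, Ideal.mem_comap]
    change (RingEquiv.quotientBot A) ((RingEquiv.quotientBot A).symm y) ∈ p ↔ _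
    rw [RingEquiv.apply_symm_apply, ← hy]
    refine ⟨fun h' => Ideal.mem_map_of_mem _ h', fun h' => ?_⟩
    obtain ⟨w, hw, hwy⟩ := (Ideal.mem_map_iff_of_surjective _ Ideal.Quotient.mk_surjective).1 h'
    rw [Ideal.Quotient.eq] at hwy
    rw [Ideal.mem_bot, sub_eq_zero] at hwy
    exact hwy ▸ hw

/-- The normalisation is radicial iff the domain is geometrically unibranch. -/
theorem universallyInjective_iff :
    UniversallyInjective (Spec.map (CommRingCat.ofHom (algebraMap A (integralClosure A K)))) ↔
      ∀ (p : Ideal A) [p.IsPrime], Unibranch.RadOver A (integralClosure A K) p := by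
  set B := integralClosure A K
  set f := Spec.map (CommRingCat.ofHom (algebraMap A B))
  have hcrit : UniversallyInjective f ↔ ∀ (L : Type u) [Field L] (α β : B →+* L),
      α.comp (algebraMap A B) = β.comp (algebraMap A B) → α = β := by
    refine ((tfae_universallyInjective f).out 0 1 rfl rfl).trans
      ⟨fun h L _ α β hab => ?_, fun h L _ g₁ g₂ hg => ?_⟩
    · have := @h L _ (Spec.map (CommRingCat.ofHom α)) (Spec.map (CommRingCat.ofHom β)) (by
        simp only [f, ← Spec.map_comp]
        exact congrArg Spec.map (CommRingCat.hom_ext hab))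
      exact congrArg CommRingCat.Hom.hom (Spec.map_injective this)
    · obtain ⟨a, rfl⟩ := Spec.map_surjective g₁
      obtain ⟨b, rfl⟩ := Spec.map_surjective g₂
      simp only [f, ← Spec.map_comp] at hg
      exact congrArg Spec.map (CommRingCat.hom_ext (h L a.hom b.hom
        (congrArg CommRingCat.Hom.hom (Spec.map_injective hg))))
  rw [hcrit]
  constructor
  · intro h p _
    refine ⟨ringExpChar (A ⧸ p), inferInstance, fun z => ?_⟩
    have hinj : Function.Injective (algebraMap A B) := fun a b e =>
      IsFractionRing.injective A K (congrArg Subtype.val e)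
    obtain ⟨Q, hQ, hQp⟩ : ∃ Q : Ideal B, Q.IsPrime ∧ Q.comap (algebraMap A B) = p := by
      obtain ⟨Q, -, hQ, hQ'⟩ := Ideal.exists_ideal_over_prime_of_isIntegral p (⊥ : Ideal B) (by
        rw [← RingHom.ker_eq_comap_bot, (RingHom.injective_iff_ker_eq_bot _).1 hinj]; exact bot_le)
      exact ⟨Q, hQ, hQ'⟩
    haveI := hQ
    haveI : Q.LiesOver p := ⟨hQp.symm⟩
    letI := Localization.AtPrime.algebraOfLiesOver p Q
    have huniq : ∀ Q' : Ideal B, Q'.IsPrime → Q'.comap (algebraMap A B) = p → Q' = Q := by
      intro Q' hQ'p hQ'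
      haveI := hQ'p
      haveI : Q'.LiesOver p := ⟨hQ'.symm⟩
      letI := Localization.AtPrime.algebraOfLiesOver p Q'
      let Ω := AlgebraicClosure p.ResidueField
      let σ : Q.ResidueField →ₐ[p.ResidueField] Ω := IsAlgClosed.lift
      let σ' : Q'.ResidueField →ₐ[p.ResidueField] Ω := IsAlgClosed.lift
      have e := h Ω (σ.toRingHom.comp (algebraMap B Q.ResidueField))
        (σ'.toRingHom.comp (algebraMap B Q'.ResidueField)) (RingHom.ext fun a => by
          change σ (algebraMap B Q.ResidueField (algebraMap A B a)) =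
            σ' (algebraMap B Q'.ResidueField (algebraMap A B a))
          rw [← IsScalarTower.algebraMap_apply, ← IsScalarTower.algebraMap_apply,
            IsScalarTower.algebraMap_apply A p.ResidueField Q.ResidueField,
            IsScalarTower.algebraMap_apply A p.ResidueField Q'.ResidueField, AlgHom.commutes, AlgHom.commutes])
      have h1 := congrArg RingHom.ker e
      rw [RingHom.ker_comp_of_injective _ σ.injective, RingHom.ker_comp_of_injective _ σ'.injective,
        Ideal.ker_algebraMap_residueField, Ideal.ker_algebraMap_residueField] at h1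
      exact h1.symm
    haveI : IsPurelyInseparable p.ResidueField Q.ResidueField := by
      rw [isPurelyInseparable_iff_subsingleton_emb, subsingleton_iff]
      intro σ₁ σ₂
      have e := h _ (σ₁.toRingHom.comp (algebraMap B Q.ResidueField))
        (σ₂.toRingHom.comp (algebraMap B Q.ResidueField)) (RingHom.ext fun a => by
          change σ₁ (algebraMap B Q.ResidueField (algebraMap A B a)) =
            σ₂ (algebraMap B Q.ResidueField (algebraMap A B a))
          rw [← IsScalarTower.algebraMap_apply,
            IsScalarTower.algebraMap_apply A p.ResidueField Q.ResidueField, AlgHom.commutes, AlgHom.commutes])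
      exact AlgHom.coe_ringHom_injective (Ideal.ResidueField.ringHom_ext e)
    haveI : ExpChar p.ResidueField (ringExpChar (A ⧸ p)) :=
      expChar_of_injective_ringHom (f := algebraMap (A ⧸ p) p.ResidueField)
        (IsFractionRing.injective (A ⧸ p) p.ResidueField) _
    obtain ⟨n, c, hc⟩ := IsPurelyInseparable.pow_mem p.ResidueField (ringExpChar (A ⧸ p))
      (algebraMap B Q.ResidueField z)
    obtain ⟨aq, sq, hs, hdiv⟩ := IsFractionRing.div_surjective (A ⧸ p) c
    obtain ⟨a, rfl⟩ := Ideal.Quotient.mk_surjective aq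
    obtain ⟨s, rfl⟩ := Ideal.Quotient.mk_surjective sq
    have hsp : s ∉ p := fun h' => nonZeroDivisors.ne_zero hs (Ideal.Quotient.eq_zero_iff_mem.2 h')
    refine ⟨n, s, a, hsp, fun Q' hQ'p hQ' => ?_⟩
    rw [huniq Q' hQ'p hQ', ← Ideal.algebraMap_residueField_eq_zero, map_sub, map_mul, map_pow, sub_eq_zero,
      ← hc, ← IsScalarTower.algebraMap_apply, ← IsScalarTower.algebraMap_apply,
      IsScalarTower.algebraMap_apply A p.ResidueField Q.ResidueField,
      IsScalarTower.algebraMap_apply A p.ResidueField Q.ResidueField, ← map_mul, ← hdiv]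
    congr 1
    rw [mul_comm]
    exact div_mul_cancel₀ _ fun h' => hsp (Ideal.algebraMap_residueField_eq_zero.1 h')
  · intro h L _ α β hab
    set P := RingHom.ker (α.comp (algebraMap A B)) with hP
    haveI : P.IsPrime := RingHom.ker_isPrime _
    obtain ⟨q, hq, hr⟩ := h P
    have hu := Unibranch.RadOver.uniqueOver ⟨q, hq, hr⟩
    have hk : RingHom.ker α = RingHom.ker β := hu _ _ (RingHom.ker_isPrime _) (RingHom.ker_isPrime _)
      (by rw [hP, ← RingHom.comap_ker]) (by rw [hP, hab, ← RingHom.comap_ker])
    haveI : ExpChar L q := by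
      haveI := hq
      exact expChar_of_injective_ringHom (f := Ideal.Quotient.lift P (α.comp (algebraMap A B)) fun a ha => ha)
        (RingHom.lift_injective_of_ker_le_ideal _ _ le_rfl) q
    refine RingHom.ext fun z => ?_
    obtain ⟨n, s, a, hs, hQ⟩ := hr z
    have hα := hQ (RingHom.ker α) (RingHom.ker_isPrime _) (by rw [hP, ← RingHom.comap_ker])
    have hβ : _ ∈ RingHom.ker β := hk ▸ hα
    rw [RingHom.mem_ker, map_sub, map_mul, map_pow, sub_eq_zero] at hα hβ
    have e : ∀ r, α (algebraMap A B r) = β (algebraMap A B r) := RingHom.congr_fun hab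
    rw [← e, ← e] at hβ
    have h2 := mul_left_cancel₀ (fun h' => hs h' : α (algebraMap A B s) ≠ 0) (hα.trans hβ.symm)
    exact iterateFrobenius_inj L q n h2

end Groth.Agent.UnibranchEtale
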