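import Mathlib
import Groth.Prelude.Def_EGA4Misc
import Groth.Agent.UnibranchEtale.Normalization

/-!
Geometric unibranchness under integral birational maps: ring level.
-/

set_option autoImplicit false
set_option linter.style.haveILetI false

universe u

open CAlg2

namespace Groth.Agent.UnibranchEtale

theorem isGeomUnibranch_iff_radOver_birational (A B : Type u) [CommRing A] [IsDomain A] [CommRing B]
    [IsDomain B] [Algebra A B] [Algebra.IsIntegral A B] (K : Type u) [Field K] [Algebra A K]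
    [IsFractionRing A K] [Algebra B K] [IsScalarTower A B K] [IsFractionRing B K]
    (p : Ideal A) [p.IsPrime] (q : Ideal B) [q.IsPrime] (hq : q.comap (algebraMap A B) = p) :
    IsGeomUnibranch (Localization.AtPrime p) ↔
      Unibranch.RadOver A B p ∧ IsGeomUnibranch (Localization.AtPrime q) := by
  rw [isGeomUnibranch_iff_radOver A K p, isGeomUnibranch_iff_radOver B K q]
  let j : B →ₐ[A] integralClosure A K :=
    AlgHom.codRestrict (IsScalarTower.toAlgHom A B K) _
      fun b => (Algebra.IsIntegral.isIntegral b).map (IsScalarTower.toAlgHom A B K)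
  let σ : integralClosure A K →+* integralClosure B K :=
    { toFun := fun z => ⟨z.1, z.2.tower_top⟩
      map_one' := rfl
      map_mul' := fun _ _ => rfl
      map_zero' := rfl
      map_add' := fun _ _ => rfl }
  have hσ : Function.Surjective σ := fun z =>
    ⟨⟨z.1, isIntegral_trans (R := A) (A := B) z.1 z.2⟩, rfl⟩
  have hσA : ∀ a, σ (algebraMap A (integralClosure A K) a) =
      algebraMap B (integralClosure B K) (algebraMap A B a) :=
    fun a => Subtype.ext (IsScalarTower.algebraMap_apply A B K a)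
  let τ : integralClosure B K →+* integralClosure A K :=
    { toFun := fun z => ⟨z.1, isIntegral_trans (R := A) (A := B) z.1 z.2⟩
      map_one' := rfl
      map_mul' := fun _ _ => rfl
      map_zero' := rfl
      map_add' := fun _ _ => rfl }
  have hτB : ∀ b, τ (algebraMap B (integralClosure B K) b) = j b := fun b => rfl
  constructor
  · intro h
    have hj : Function.Injective j := fun a b e =>
      IsFractionRing.injective B K (congrArg Subtype.val e)
    have hji : j.toRingHom.IsIntegral := RingHom.IsIntegral.tower_top (algebraMap A B) j.toRingHom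
      (by rw [j.toRingHom_eq_coe, j.comp_algebraMap]; exact fun x => Algebra.IsIntegral.isIntegral x)
    refine ⟨h.of_injective j hj hji, ?_⟩
    obtain ⟨e, he, h⟩ := h
    refine ⟨e, ?_, fun z => ?_⟩
    · haveI := he
      exact expChar_of_injective_ringHom
        (f := Ideal.quotientMap q (algebraMap A B) hq.ge) (Ideal.quotientMap_injective' hq.le) e
    obtain ⟨n, s, a, hs, hQ⟩ := h (τ z)
    refine ⟨n, algebraMap A B s, algebraMap A B a, fun h' => hs (hq ▸ Ideal.mem_comap.2 h'),
      fun Q hQp hQe => ?_⟩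
    have hz : σ (τ z) = z := rfl
    have := hQ (Q.comap σ) (hQp.comap _) (by
      rw [Ideal.comap_comap, show σ.comp (algebraMap A (integralClosure A K)) =
        (algebraMap B (integralClosure B K)).comp (algebraMap A B) from RingHom.ext hσA,
        ← Ideal.comap_comap, hQe, hq])
    rw [Ideal.mem_comap, map_sub, map_mul, map_pow, hσA, hσA, hz] at this
    exact this
  · rintro ⟨hAB, h⟩
    have huniq := hAB.uniqueOver
    obtain ⟨e, he, hAB⟩ := hAB
    obtain ⟨e', he', h⟩ := h
    haveI := he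
    haveI : ExpChar (B ⧸ q) e := expChar_of_injective_ringHom
      (f := Ideal.quotientMap q (algebraMap A B) hq.ge) (Ideal.quotientMap_injective' hq.le) e
    obtain rfl : e' = e := ExpChar.eq he' inferInstance
    refine ⟨e', he, fun z => ?_⟩
    obtain ⟨n, s, a, hs, hQ⟩ := h (σ z)
    obtain ⟨m, t, c, ht, hs'⟩ := hAB s
    obtain ⟨m', t', c', ht', ha'⟩ := hAB a
    have hc : c ∉ p := fun h' => by
      have h1 := hs' q inferInstance hq
      have h2 : algebraMap A B c ∈ q := Ideal.mem_comap.1 (hq.symm ▸ h')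
      have h3 := q.add_mem h1 h2
      rw [sub_add_cancel] at h3
      rcases Ideal.IsPrime.mem_or_mem ‹_› h3 with h4 | h4
      · exact ht (hq ▸ Ideal.mem_comap.2 h4)
      · exact hs (Ideal.IsPrime.mem_of_pow_mem ‹_› _ h4)
    refine ⟨n + m + m', t' ^ e' ^ m * c ^ e' ^ m', t ^ e' ^ m' * c' ^ e' ^ m,
      fun h' => (Ideal.IsPrime.mem_or_mem ‹_› h').elim
        (fun h'' => ht' (Ideal.IsPrime.mem_of_pow_mem ‹_› _ h''))
        (fun h'' => hc (Ideal.IsPrime.mem_of_pow_mem ‹_› _ h'')), fun Q hQp hQe => ?_⟩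
    haveI := hQp
    haveI : ExpChar (integralClosure A K ⧸ Q) e' := expChar_of_injective_ringHom
      (f := Ideal.quotientMap Q (algebraMap A (integralClosure A K)) hQe.ge)
      (Ideal.quotientMap_injective' hQe.le) e'
    have hQB : (Q.comap j.toRingHom).comap (algebraMap A B) = p := by
      rw [Ideal.comap_comap, j.toRingHom_eq_coe, j.comp_algebraMap, hQe]
    have hqQ : Q.comap j.toRingHom = q := huniq _ _ (hQp.comap _) inferInstance hQB hq
    have hQ' := hQ (Q.comap τ) (hQp.comap _) (by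
      rw [Ideal.comap_comap, show τ.comp (algebraMap B (integralClosure B K)) = j.toRingHom from
        RingHom.ext hτB, hqQ])
    rw [Ideal.mem_comap, map_sub, map_mul, map_pow, hτB, hτB, show τ (σ z) = z from rfl,
      ← Ideal.Quotient.eq] at hQ'
    have h1 := hs' q inferInstance hq
    have h2 := ha' q inferInstance hq
    rw [← hqQ, Ideal.mem_comap, AlgHom.toRingHom_eq_coe, RingHom.coe_coe, map_sub, map_mul, map_pow,
      j.commutes, j.commutes, ← Ideal.Quotient.eq] at h1 h2
    rw [← Ideal.Quotient.eq]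
    have e0 := congrArg (· ^ e' ^ (m + m')) hQ'
    have e1 := congrArg (· ^ e' ^ m') h1
    have e2 := congrArg (· ^ e' ^ m) h2
    simp only [map_mul, map_pow, mul_pow, ← pow_mul, ← pow_add, ← add_assoc, Nat.add_comm m' m]
      at e0 e1 e2
    simp only [map_mul, map_pow]
    generalize Ideal.Quotient.mk Q z ^ e' ^ (n + m + m') = Z at *
    generalize Ideal.Quotient.mk Q (j s) ^ e' ^ (m + m') = S at *
    generalize Ideal.Quotient.mk Q (j a) ^ e' ^ (m + m') = T at *
    linear_combination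
      (Ideal.Quotient.mk Q (algebraMap A _ t') ^ e' ^ m *
        Ideal.Quotient.mk Q (algebraMap A _ t) ^ e' ^ m') * e0
      - (Ideal.Quotient.mk Q (algebraMap A _ t') ^ e' ^ m * Z) * e1
      + (Ideal.Quotient.mk Q (algebraMap A _ t) ^ e' ^ m') * e2

/-- A prime with a unique minimal prime below it, in terms of the quotient by that minimal prime. -/
theorem isGeomUnibranch_iff_quotient {A : Type u} [CommRing A] (p p₀ : Ideal A) [p.IsPrime] [p₀.IsPrime]
    (hle : p₀ ≤ p) (hmin : ∀ p' : Ideal A, p'.IsPrime → p' ≤ p → p₀ ≤ p') (P : Ideal (A ⧸ p₀)) [P.IsPrime]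
    (hP : P.comap (Ideal.Quotient.mk p₀) = p) :
    IsGeomUnibranch (Localization.AtPrime p) ↔ IsGeomUnibranch (Localization.AtPrime P) := by
  have hP' : p.map (Ideal.Quotient.mk p₀) = P := by
    rw [← hP, Ideal.map_comap_of_surjective _ Ideal.Quotient.mk_surjective]
  have hb : (P.map (Ideal.Quotient.mk (⊥ : Ideal (A ⧸ p₀)))).comap (Ideal.Quotient.mk ⊥) = P := by
    rw [Ideal.comap_map_of_surjective _ Ideal.Quotient.mk_surjective, ← RingHom.ker_eq_comap_bot,
      Ideal.mk_ker, sup_bot_eq]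
  constructor
  · intro h
    obtain ⟨p₁, hp₁, hle₁, hmin₁, hG⟩ := Unibranch.exists_guAt_of_isGeomUnibranch p (Localization.AtPrime p) h
    obtain rfl : p₁ = p₀ := le_antisymm (hmin₁ p₀ inferInstance hle) (hmin p₁ hp₁ hle₁)
    rw [hP'] at hG
    refine Unibranch.isGeomUnibranch_of_guAt P ⊥ (Localization.AtPrime P) bot_le (fun p' _ _ => bot_le)
      fun _ => guAt_of_equiv (RingEquiv.quotientBot _) _ P ?_ hG
    ext x
    obtain ⟨y, rfl⟩ := Ideal.Quotient.mk_surjective x
    rw [Ideal.mem_comap]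
    change y ∈ P ↔ _
    rw [← Ideal.mem_comap, hb]
  · intro h
    obtain ⟨p₁, hp₁, hle₁, hmin₁, hG⟩ := Unibranch.exists_guAt_of_isGeomUnibranch P (Localization.AtPrime P) h
    obtain rfl : p₁ = ⊥ := le_bot_iff.1 (hmin₁ ⊥ Ideal.isPrime_bot bot_le)
    refine Unibranch.isGeomUnibranch_of_guAt p p₀ (Localization.AtPrime p) hle hmin fun _ => ?_
    rw [hP']
    exact guAt_of_equiv (RingEquiv.quotientBot _).symm P (P.map (Ideal.Quotient.mk ⊥)) hb hG

/-- Geometric unibranchness along an integral map which is birational on the components through `p`. -/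
theorem isGeomUnibranch_iff_of_minimal {A B : Type u} [CommRing A] [CommRing B] [Algebra A B]
    [Algebra.IsIntegral A B] (p p₀ : Ideal A) (q q₀ : Ideal B) [p.IsPrime] [p₀.IsPrime] [q.IsPrime]
    [q₀.IsPrime] [q₀.LiesOver p₀] (hq : q.comap (algebraMap A B) = p) (hle : p₀ ≤ p)
    (hmin : ∀ p' : Ideal A, p'.IsPrime → p' ≤ p → p₀ ≤ p')
    (hqle : ∀ Q : Ideal B, Q.IsPrime → Q.comap (algebraMap A B) = p → q₀ ≤ Q)
    (hqmin : ∀ q' : Ideal B, q'.IsPrime → q' ≤ q → q₀ ≤ q')
    (hbir : ∀ b : B, ∃ s a : A, s ∉ p₀ ∧ algebraMap A B s * b - algebraMap A B a ∈ q₀) :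
    IsGeomUnibranch (Localization.AtPrime p) ↔
      Unibranch.RadOver A B p ∧ IsGeomUnibranch (Localization.AtPrime q) := by
  haveI hP : (p.map (Ideal.Quotient.mk p₀)).IsPrime :=
    Ideal.map_isPrime_of_surjective Ideal.Quotient.mk_surjective (by rwa [Ideal.mk_ker])
  haveI hQ : (q.map (Ideal.Quotient.mk q₀)).IsPrime :=
    Ideal.map_isPrime_of_surjective Ideal.Quotient.mk_surjective (by rw [Ideal.mk_ker]; exact hqle q inferInstance hq)
  set P := p.map (Ideal.Quotient.mk p₀) with hPdef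
  set Qb := q.map (Ideal.Quotient.mk q₀) with hQdef
  have hPc : P.comap (Ideal.Quotient.mk p₀) = p := by
    rw [hPdef, Ideal.comap_map_of_surjective _ Ideal.Quotient.mk_surjective, ← RingHom.ker_eq_comap_bot,
      Ideal.mk_ker, sup_eq_left.2 hle]
  have hQc : Qb.comap (Ideal.Quotient.mk q₀) = q := by
    rw [hQdef, Ideal.comap_map_of_surjective _ Ideal.Quotient.mk_surjective, ← RingHom.ker_eq_comap_bot,
      Ideal.mk_ker, sup_eq_left.2 (hqle q inferInstance hq)]
  have hcomm : ∀ a, algebraMap (A ⧸ p₀) (B ⧸ q₀) (Ideal.Quotient.mk p₀ a) =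
      Ideal.Quotient.mk q₀ (algebraMap A B a) := fun a => rfl
  have hover : ∀ Q : Ideal (B ⧸ q₀), Q.comap (algebraMap (A ⧸ p₀) (B ⧸ q₀)) = P ↔
      (Q.comap (Ideal.Quotient.mk q₀)).comap (algebraMap A B) = p := by
    intro Q
    rw [← (Ideal.comap_injective_of_surjective _ Ideal.Quotient.mk_surjective).eq_iff (a := Q.comap _),
      hPc, Ideal.comap_comap, Ideal.comap_comap]
    rfl
  let K := FractionRing (B ⧸ q₀)
  haveI : FaithfulSMul (A ⧸ p₀) (B ⧸ q₀) := by
    rw [faithfulSMul_iff_algebraMap_injective, injective_iff_map_eq_zero]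
    intro x hx
    obtain ⟨a, rfl⟩ := Ideal.Quotient.mk_surjective x
    rw [hcomm, Ideal.Quotient.eq_zero_iff_mem] at hx
    rw [Ideal.Quotient.eq_zero_iff_mem, q₀.over_def p₀]
    exact hx
  haveI : IsScalarTower (A ⧸ p₀) (B ⧸ q₀) K := inferInstance
  haveI : FaithfulSMul (A ⧸ p₀) K := (faithfulSMul_iff_algebraMap_injective _ _).2 (by
    rw [IsScalarTower.algebraMap_eq (A ⧸ p₀) (B ⧸ q₀) K]
    exact (IsFractionRing.injective (B ⧸ q₀) K).comp (FaithfulSMul.algebraMap_injective _ _))
  haveI : IsFractionRing (A ⧸ p₀) K := by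
    refine IsFractionRing.of_field _ _ fun z => ?_
    have key : ∀ x : B ⧸ q₀, ∃ s a : A ⧸ p₀, s ≠ 0 ∧
        algebraMap (B ⧸ q₀) K x = algebraMap (A ⧸ p₀) K a / algebraMap (A ⧸ p₀) K s := by
      intro x
      obtain ⟨b, rfl⟩ := Ideal.Quotient.mk_surjective x
      obtain ⟨s, a, hs, h⟩ := hbir b
      have hs' : Ideal.Quotient.mk p₀ s ≠ 0 := by rwa [ne_eq, Ideal.Quotient.eq_zero_iff_mem]
      refine ⟨Ideal.Quotient.mk p₀ s, Ideal.Quotient.mk p₀ a, hs', ?_⟩
      rw [eq_div_iff ((map_ne_zero_iff _ (FaithfulSMul.algebraMap_injective _ _)).2 hs'), mul_comm,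
        IsScalarTower.algebraMap_apply (A ⧸ p₀) (B ⧸ q₀) K,
        IsScalarTower.algebraMap_apply (A ⧸ p₀) (B ⧸ q₀) K, ← map_mul, hcomm, hcomm, ← map_mul]
      exact congrArg (algebraMap (B ⧸ q₀) K) (Ideal.Quotient.eq.2 h)
    obtain ⟨x, y, hy, rfl⟩ := IsFractionRing.div_surjective (B ⧸ q₀) z
    obtain ⟨s, a, hs, hx⟩ := key x
    obtain ⟨s', a', hs', hy'⟩ := key y
    refine ⟨a * s', a' * s, ?_⟩
    rw [hx, hy', div_div_div_eq, map_mul, map_mul, mul_comm (algebraMap _ K a') _]
  rw [isGeomUnibranch_iff_quotient p p₀ hle hmin P hPc,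
    isGeomUnibranch_iff_quotient q q₀ (hqle q inferInstance hq) hqmin Qb hQc,
    isGeomUnibranch_iff_radOver_birational (A ⧸ p₀) (B ⧸ q₀) K P Qb ((hover Qb).2 (by rw [hQc, hq]))]
  refine and_congr_left fun _ => ?_
  let e : (A ⧸ p₀) ⧸ P ≃+* A ⧸ p := DoubleQuot.quotQuotEquivQuotOfLE hle
  constructor
  · rintro ⟨n, hn, h⟩
    haveI := hn
    refine ⟨n, expChar_of_injective_ringHom (f := e.toRingHom) e.injective n, fun b => ?_⟩
    obtain ⟨k, s, a, hs, h⟩ := h (Ideal.Quotient.mk q₀ b)
    obtain ⟨s, rfl⟩ := Ideal.Quotient.mk_surjective s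
    obtain ⟨a, rfl⟩ := Ideal.Quotient.mk_surjective a
    refine ⟨k, s, a, fun h' => hs (Ideal.mem_map_of_mem _ h'), fun Q hQp hQe => ?_⟩
    haveI := hQp
    have hle' := hqle Q hQp hQe
    have hc : (Q.map (Ideal.Quotient.mk q₀)).comap (Ideal.Quotient.mk q₀) = Q := by
      rw [Ideal.comap_map_of_surjective _ Ideal.Quotient.mk_surjective, ← RingHom.ker_eq_comap_bot,
        Ideal.mk_ker, sup_eq_left.2 hle']
    have := h _ (Ideal.map_isPrime_of_surjective (I := Q) Ideal.Quotient.mk_surjective (by rwa [Ideal.mk_ker]))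
      ((hover _).2 (by rw [hc, hQe]))
    rw [hcomm, hcomm, ← map_pow, ← map_mul, ← map_sub, ← Ideal.mem_comap, hc] at this
    exact this
  · rintro ⟨n, hn, h⟩
    haveI := hn
    refine ⟨n, expChar_of_injective_ringHom (f := e.symm.toRingHom) e.symm.injective n, fun z => ?_⟩
    obtain ⟨b, rfl⟩ := Ideal.Quotient.mk_surjective z
    obtain ⟨k, s, a, hs, h⟩ := h b
    refine ⟨k, Ideal.Quotient.mk p₀ s, Ideal.Quotient.mk p₀ a,
      fun h' => hs (hPc ▸ Ideal.mem_comap.2 h'), fun Q hQp hQe => ?_⟩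
    rw [hcomm, hcomm, ← map_pow, ← map_mul, ← map_sub, ← Ideal.mem_comap]
    exact h _ (hQp.comap _) ((hover Q).1 hQe)

end Groth.Agent.UnibranchEtale
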