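import Mathlib
import Groth.Prelude.Def_CAlg2
import Groth.Prelude.Def_Hensel
import Groth.Agent.S2750
import Groth.Agent.S2135
import Groth.Agent.Hensel.StrictMaps
import Groth.Agent.Hensel.Henselization
import Groth.Agent.UnramLib.FlatUnram
import Groth.Agent.EtaleLocalProps.Basic

/-!
Étale algebras over geometrically unibranch local rings, and unramified algebras over them.
-/

set_option autoImplicit false
set_option linter.style.haveILetI false

universe u

open IsLocalRing

namespace Groth.Agent.UnibranchEtale

section strict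

variable {A C : Type u} [CommRing A] [CommRing C] [Algebra A C] [Algebra.Etale A C]
  (p : Ideal A) [p.IsPrime] (q : Ideal C) [q.IsPrime] [q.LiesOver p]
  (S : Type u) [CommRing S] [IsLocalRing S] [Algebra (Localization.AtPrime p) S]
  [IsLocalHom (algebraMap (Localization.AtPrime p) S)]
  [hS : _root_.Hensel.IsStrictHenselization (Localization.AtPrime p) S]
  [Algebra A S] [IsScalarTower A (Localization.AtPrime p) S]

include hS in
/-- An étale algebra maps to the strict henselisation, centred at a given point over `p`. -/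
theorem exists_point :
    ∃ φ : C →ₐ[A] S, (maximalIdeal S).comap φ.toRingHom = q := by
  haveI : HenselianLocalRing S := hS.henselian
  haveI : IsSepClosed (ResidueField S) := hS.isSepClosure.sep_closed
  letI := Localization.AtPrime.algebraOfLiesOver p q
  let ι : q.ResidueField →ₐ[p.ResidueField] ResidueField S := IsSepClosed.lift
  have hι : ∀ a : A, ι (algebraMap A q.ResidueField a) = residue S (algebraMap A S a) := by
    intro a
    rw [IsScalarTower.algebraMap_apply A p.ResidueField q.ResidueField, AlgHom.commutes,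
      IsScalarTower.algebraMap_apply A (Localization.AtPrime p) S]
    rfl
  let ψ : C →ₐ[A] ResidueField S :=
    { ι.toRingHom.comp (algebraMap C q.ResidueField) with
      commutes' := fun a => by
        change ι (algebraMap C q.ResidueField (algebraMap A C a)) = _
        rw [← IsScalarTower.algebraMap_apply A C q.ResidueField, hι]
        rfl }
  let π : S →ₐ[A] ResidueField S := IsScalarTower.toAlgHom A S (ResidueField S)
  have hker : RingHom.ker π.toRingHom = maximalIdeal S := ker_residue (R := S)
  obtain ⟨φ, hφ, -⟩ := Hensel.existsUnique_algHom_of_quotient π residue_surjective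
    (hker ▸ inferInstance) ψ
  refine ⟨φ, ?_⟩
  ext c
  rw [Ideal.mem_comap, ← residue_eq_zero_iff]
  have : residue S (φ c) = ι (algebraMap C q.ResidueField c) := AlgHom.congr_fun hφ c
  change residue S (φ c) = 0 ↔ _
  rw [this, map_eq_zero, Ideal.algebraMap_residueField_eq_zero]

variable {p q S}

omit [Algebra.Etale A C] in
theorem isUnit_point {φ : C →ₐ[A] S} (hφ : (maximalIdeal S).comap φ.toRingHom = q)
    (y : q.primeCompl) : IsUnit (φ y) :=
  not_not.1 fun h => y.2 (hφ ▸ (mem_maximalIdeal _).2 h)

/-- The induced map on the local ring. -/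
noncomputable def lift (φ : C →ₐ[A] S) (hφ : (maximalIdeal S).comap φ.toRingHom = q) :
    Localization.AtPrime q →+* S :=
  IsLocalization.lift (M := q.primeCompl) (g := φ.toRingHom) (isUnit_point hφ)

theorem lift_algebraMap (φ : C →ₐ[A] S) (hφ : (maximalIdeal S).comap φ.toRingHom = q) (c : C) :
    lift φ hφ (algebraMap C _ c) = φ c :=
  IsLocalization.lift_eq _ c

theorem isLocalHom_lift (φ : C →ₐ[A] S) (hφ : (maximalIdeal S).comap φ.toRingHom = q) :
    IsLocalHom (lift φ hφ) := by
  refine ⟨fun z hz => ?_⟩
  obtain ⟨⟨c, s⟩, h⟩ := IsLocalization.surj q.primeCompl z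
  have h' := congrArg (lift φ hφ) h
  rw [map_mul, lift_algebraMap, lift_algebraMap] at h'
  have hc : c ∈ q.primeCompl := fun hcq => by
    have h1 : φ c ∈ maximalIdeal S := by rw [← hφ] at hcq; exact hcq
    exact (mem_maximalIdeal _).1 h1 (h' ▸ hz.mul (isUnit_point hφ s))
  have h2 : IsUnit (z * algebraMap C (Localization.AtPrime q) s) :=
    h ▸ IsLocalization.map_units (Localization.AtPrime q) (⟨c, hc⟩ : q.primeCompl)
  exact (IsUnit.mul_iff.1 h2).1

variable (p) in
theorem lift_comp (φ : C →ₐ[A] S) (hφ : (maximalIdeal S).comap φ.toRingHom = q) :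
    (lift φ hφ).comp (Localization.localRingHom p q (algebraMap A C) (q.over_def p)) =
      algebraMap (Localization.AtPrime p) S := by
  refine IsLocalization.ringHom_ext p.primeCompl (RingHom.ext fun a => ?_)
  rw [RingHom.comp_apply, RingHom.comp_apply, Localization.localRingHom_to_map, lift_algebraMap,
    AlgHom.commutes, RingHom.comp_apply, IsScalarTower.algebraMap_apply A (Localization.AtPrime p) S]

variable (p) in
include hS in
/-- The map from the local ring of an étale algebra to the strict henselisation is injective. -/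
theorem lift_injective (φ : C →ₐ[A] S) (hφ : (maximalIdeal S).comap φ.toRingHom = q) :
    Function.Injective (lift φ hφ) := by
  haveI := Hensel.strictHenselization_faithfullyFlat (Localization.AtPrime p) S
  haveI : Module.Flat A S := Module.Flat.trans A (Localization.AtPrime p) S
  letI : Algebra C S := φ.toRingHom.toAlgebra
  haveI : IsScalarTower A C S := IsScalarTower.of_algebraMap_eq fun a => (φ.commutes a).symm
  haveI : Module.Flat C S := UnramLib.flat_of_formallyUnramified A C S
  letI : Algebra (Localization.AtPrime q) S := (lift φ hφ).toAlgebra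
  haveI : IsScalarTower C (Localization.AtPrime q) S :=
    IsScalarTower.of_algebraMap_eq fun c => (lift_algebraMap φ hφ c).symm
  haveI : Module.Flat (Localization.AtPrime q) S :=
    (Module.flat_iff_of_isLocalization (Localization.AtPrime q) q.primeCompl S).2 inferInstance
  haveI : IsLocalHom (algebraMap (Localization.AtPrime q) S) := isLocalHom_lift φ hφ
  haveI : Module.FaithfullyFlat (Localization.AtPrime q) S :=
    Module.FaithfullyFlat.of_flat_of_isLocalHom
  exact FaithfulSMul.algebraMap_injective (Localization.AtPrime q) S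

variable (p) in
include hS in
/-- The strict henselisation of the base is one of every étale neighbourhood. -/
theorem isStrictHenselization_lift (φ : C →ₐ[A] S) (hφ : (maximalIdeal S).comap φ.toRingHom = q) :
    letI := (lift φ hφ).toAlgebra
    ∃ _ : IsLocalHom (algebraMap (Localization.AtPrime q) S),
      _root_.Hensel.IsStrictHenselization (Localization.AtPrime q) S := by
  letI : Algebra (Localization.AtPrime q) S := (lift φ hφ).toAlgebra
  let ρ := Localization.localRingHom p q (algebraMap A C) (q.over_def p)
  haveI hloc : IsLocalHom (algebraMap (Localization.AtPrime q) S) := isLocalHom_lift φ hφ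
  letI : Algebra (Localization.AtPrime p) (Localization.AtPrime q) := ρ.toAlgebra
  haveI : IsLocalHom (algebraMap (Localization.AtPrime p) (Localization.AtPrime q)) :=
    Localization.isLocalHom_localRingHom p q (algebraMap A C) (q.over_def p)
  haveI : IsScalarTower (Localization.AtPrime p) (Localization.AtPrime q) S :=
    IsScalarTower.of_algebraMap_eq fun a => (RingHom.congr_fun (lift_comp p φ hφ) a).symm
  haveI : IsScalarTower (ResidueField (Localization.AtPrime p)) (ResidueField (Localization.AtPrime q))
      (ResidueField S) := IsScalarTower.of_algebraMap_eq fun x => by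
    obtain ⟨x, rfl⟩ := residue_surjective x
    rw [ResidueField.algebraMap_residue, ResidueField.algebraMap_residue, ResidueField.algebraMap_residue,
      ← IsScalarTower.algebraMap_apply]
  haveI : HenselianLocalRing S := hS.henselian
  haveI := hS.isSepClosure.separable
  refine ⟨hloc, ⟨hS.henselian, ⟨hS.isSepClosure.sep_closed,
    Algebra.isSeparable_tower_top_of_isSeparable (ResidueField (Localization.AtPrime p))
      (ResidueField (Localization.AtPrime q)) (ResidueField S)⟩, fun T _ _ g _ τ hτ => ?_⟩⟩
  let g₀ : Localization.AtPrime p →+* T := g.comp ρ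
  haveI : IsLocalHom g₀ := RingHom.isLocalHom_comp g ρ
  have hτ' : τ.comp (ResidueField.map (algebraMap (Localization.AtPrime p) S)) = ResidueField.map g₀ := by
    refine RingHom.ext fun x => ?_
    obtain ⟨x, rfl⟩ := residue_surjective x
    have h1 := RingHom.congr_fun hτ (residue _ (ρ x))
    simp only [RingHom.comp_apply, ResidueField.map_residue] at h1
    rw [RingHom.comp_apply, ResidueField.map_residue, ResidueField.map_residue,
      IsScalarTower.algebraMap_apply (Localization.AtPrime p) (Localization.AtPrime q) S]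
    exact h1
  obtain ⟨h, ⟨hh, hhτ⟩, huniq⟩ := hS.universal T g₀ τ hτ'
  refine ⟨h, ⟨?_, hhτ⟩, fun h' ⟨h1, h2⟩ => huniq h' ⟨?_, h2⟩⟩
  · refine IsLocalization.ringHom_ext q.primeCompl (RingHom.ext fun c => ?_)
    letI : Algebra A T := (g₀.comp (algebraMap A (Localization.AtPrime p))).toAlgebra
    have hA : ∀ a, h (algebraMap A S a) = algebraMap A T a := fun a => by
      rw [IsScalarTower.algebraMap_apply A (Localization.AtPrime p) S]
      exact RingHom.congr_fun hh _
    let f₁ : C →ₐ[A] T := { h.comp φ.toRingHom with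
      commutes' := fun a => by change h (φ (algebraMap A C a)) = _; rw [φ.commutes]; exact hA a }
    let f₂ : C →ₐ[A] T := { g.comp (algebraMap C (Localization.AtPrime q)) with
      commutes' := fun a => by
        change g (algebraMap C (Localization.AtPrime q) (algebraMap A C a)) =
          g (ρ (algebraMap A (Localization.AtPrime p) a))
        rw [Localization.localRingHom_to_map] }
    have hf : f₁ = f₂ := by
      refine Hensel.algHom_eq_of_unramified (maximalIdeal_le_jacobson ⊥) f₁ f₂ fun x => ?_
      rw [← residue_eq_zero_iff, map_sub, sub_eq_zero]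
      have h1 := RingHom.congr_fun hτ (residue _ (algebraMap C (Localization.AtPrime q) x))
      simp only [RingHom.comp_apply, ResidueField.map_residue] at h1
      change residue T (h (φ x)) = residue T (g (algebraMap C (Localization.AtPrime q) x))
      rw [hhτ, ← lift_algebraMap φ hφ x]
      exact h1
    have := AlgHom.congr_fun hf c
    change h (lift φ hφ (algebraMap C _ c)) = g (algebraMap C _ c)
    rw [lift_algebraMap]
    exact this
  · rw [← lift_comp p φ hφ, ← RingHom.comp_assoc]
    exact congrArg (fun k : Localization.AtPrime q →+* T => k.comp ρ) h1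

end strict

variable {A C : Type u} [CommRing A] [CommRing C] [Algebra A C] [Algebra.Etale A C]

theorem atPrime_of_etale_aux (p : Ideal A) [p.IsPrime] (q : Ideal C) [q.IsPrime] [q.LiesOver p]
    [IsReduced (Localization.AtPrime p)] (hA : CAlg2.IsGeomUnibranch (Localization.AtPrime p))
    (S : Type u) [CommRing S] [IsLocalRing S] [Algebra (Localization.AtPrime p) S]
    [IsLocalHom (algebraMap (Localization.AtPrime p) S)]
    [_root_.Hensel.IsStrictHenselization (Localization.AtPrime p) S] :
    IsDomain (Localization.AtPrime q) ∧ CAlg2.IsGeomUnibranch (Localization.AtPrime q) := by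
  letI : Algebra A S := ((algebraMap (Localization.AtPrime p) S).comp (algebraMap A _)).toAlgebra
  haveI : IsScalarTower A (Localization.AtPrime p) S := IsScalarTower.of_algebraMap_eq fun _ => rfl
  haveI : IsDomain S := (S2750.result (Localization.AtPrime p) S).1 ⟨inferInstance, hA⟩
  obtain ⟨φ, hφ⟩ := exists_point p q S
  refine ⟨(lift_injective p φ hφ).isDomain (lift φ hφ), ?_⟩
  letI : Algebra (Localization.AtPrime q) S := (lift φ hφ).toAlgebra
  obtain ⟨hl, hq⟩ := isStrictHenselization_lift p φ hφ
  haveI := hl
  haveI := hq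
  exact ((S2750.result (Localization.AtPrime q) S).2 inferInstance).2

/-- An étale local algebra of a reduced geometrically unibranch local ring is a domain, and
geometrically unibranch. -/
theorem atPrime_of_etale (p : Ideal A) [p.IsPrime] (q : Ideal C) [q.IsPrime] [q.LiesOver p]
    [IsReduced (Localization.AtPrime p)] (hA : CAlg2.IsGeomUnibranch (Localization.AtPrime p)) :
    IsDomain (Localization.AtPrime q) ∧ CAlg2.IsGeomUnibranch (Localization.AtPrime q) := by
  obtain ⟨hloc, hsh⟩ := Hensel.exists_strictHenselization (Localization.AtPrime p)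
  exact @atPrime_of_etale_aux A C _ _ _ _ p _ q _ _ _ hA _ _ _ _ hloc hsh

theorem isGeomUnibranch_atPrime_of_etale_aux (p : Ideal A) [p.IsPrime] (q : Ideal C) [q.IsPrime]
    [q.LiesOver p] (hA : CAlg2.IsGeomUnibranch (Localization.AtPrime p))
    (S : Type u) [CommRing S] [IsLocalRing S] [Algebra (Localization.AtPrime p) S]
    [IsLocalHom (algebraMap (Localization.AtPrime p) S)]
    [_root_.Hensel.IsStrictHenselization (Localization.AtPrime p) S] :
    CAlg2.IsGeomUnibranch (Localization.AtPrime q) := by
  letI : Algebra A S := ((algebraMap (Localization.AtPrime p) S).comp (algebraMap A _)).toAlgebra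
  haveI : IsScalarTower A (Localization.AtPrime p) S := IsScalarTower.of_algebraMap_eq fun _ => rfl
  have hu := (S2135.result (A := Localization.AtPrime p) (Ash := S)).1 hA
  obtain ⟨φ, hφ⟩ := exists_point p q S
  letI : Algebra (Localization.AtPrime q) S := (lift φ hφ).toAlgebra
  obtain ⟨hl, hq⟩ := isStrictHenselization_lift p φ hφ
  haveI := hl
  haveI := hq
  exact (S2135.result (A := Localization.AtPrime q) (Ash := S)).2 hu

/-- An étale local algebra of a geometrically unibranch local ring is geometrically unibranch. -/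
theorem isGeomUnibranch_atPrime_of_etale (p : Ideal A) [p.IsPrime] (q : Ideal C) [q.IsPrime]
    [q.LiesOver p] (hA : CAlg2.IsGeomUnibranch (Localization.AtPrime p)) :
    CAlg2.IsGeomUnibranch (Localization.AtPrime q) := by
  obtain ⟨hloc, hsh⟩ := Hensel.exists_strictHenselization (Localization.AtPrime p)
  exact @isGeomUnibranch_atPrime_of_etale_aux A C _ _ _ _ p _ q _ _ hA _ _ _ _ hloc hsh

omit [Algebra.Etale A C] in
theorem ker_toAtPrime_le (q : Ideal C) [q.IsPrime] (P : Ideal C) [P.IsPrime] (h : P ≤ q) :
    RingHom.ker (algebraMap C (Localization.AtPrime q)) ≤ P := by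
  intro x hx
  obtain ⟨⟨s, hs⟩, hsx⟩ := (IsLocalization.map_eq_zero_iff q.primeCompl _ x).1 hx
  exact (‹P.IsPrime›.mem_or_mem (hsx ▸ P.zero_mem)).resolve_left fun hsP => hs (h hsP)

/-- Over a geometrically unibranch domain the only prime below `q` over the generic point of the
local ring at `p` is the kernel of `C → C_q`. -/
theorem eq_ker_toAtPrime (p : Ideal A) [p.IsPrime] (q : Ideal C) [q.IsPrime] [q.LiesOver p]
    [IsDomain (Localization.AtPrime p)] (hA : CAlg2.IsGeomUnibranch (Localization.AtPrime p))
    (J : Ideal C) [J.IsPrime] (hJq : J ≤ q)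
    (hJ : J.comap (algebraMap A C) = RingHom.ker (algebraMap A (Localization.AtPrime p))) :
    J = RingHom.ker (algebraMap C (Localization.AtPrime q)) := by
  haveI := (atPrime_of_etale p q hA).1
  set P₀ := RingHom.ker (algebraMap C (Localization.AtPrime q))
  haveI : P₀.IsPrime := RingHom.ker_isPrime _
  haveI : Algebra.QuasiFinite A C :=
    ⟨fun P _ => Algebra.FormallyUnramified.finite_of_free P.ResidueField _⟩
  have hle : P₀ ≤ J := ker_toAtPrime_le q J hJq
  refine (Algebra.QuasiFinite.eq_of_le_of_under_eq (R := A) P₀ J hle ?_).symm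
  refine le_antisymm (Ideal.comap_mono hle) ?_
  change J.comap (algebraMap A C) ≤ _
  rw [hJ]
  intro a ha
  rw [Ideal.under_def, Ideal.mem_comap, RingHom.mem_ker,
    ← Localization.localRingHom_to_map p q (algebraMap A C) (q.over_def p), RingHom.mem_ker.1 ha,
    map_zero]

section unramified

variable {B : Type u} [CommRing B] [Algebra A B]

omit C in
/-- An injective map of local rings gives a prime over the generic point. -/
theorem exists_prime_of_injective (p : Ideal A) [p.IsPrime] (q : Ideal B) [q.IsPrime] [q.LiesOver p]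
    [IsDomain (Localization.AtPrime p)]
    (hinj : Function.Injective (Localization.localRingHom p q (algebraMap A B) (q.over_def p))) :
    ∃ P : Ideal B, P.IsPrime ∧ P ≤ q ∧
      P.comap (algebraMap A B) = RingHom.ker (algebraMap A (Localization.AtPrime p)) := by
  let ρ := Localization.localRingHom p q (algebraMap A B) (q.over_def p)
  let M : Submonoid (Localization.AtPrime q) := (nonZeroDivisors (Localization.AtPrime p)).map ρ
  have hd : Disjoint ((⊥ : Ideal (Localization.AtPrime q)) : Set (Localization.AtPrime q))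
      (M : Set (Localization.AtPrime q)) := by
    rw [Set.disjoint_left]
    rintro _ hx ⟨a, ha, rfl⟩
    exact nonZeroDivisors.ne_zero ha (hinj (by rw [map_zero]; exact hx))
  obtain ⟨Q, hQ, -, hQd⟩ := Ideal.exists_le_prime_disjoint _ _ hd
  haveI := hQ
  refine ⟨Q.comap (algebraMap B _), Ideal.IsPrime.comap _, fun b hb => ?_, ?_⟩
  · by_contra hbq
    exact hQ.ne_top (Ideal.eq_top_of_isUnit_mem _ hb
      (IsLocalization.map_units (Localization.AtPrime q) (⟨b, hbq⟩ : q.primeCompl)))
  · ext a
    rw [Ideal.mem_comap, Ideal.mem_comap, RingHom.mem_ker,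
      ← Localization.localRingHom_to_map p q (algebraMap A B) (q.over_def p) a]
    refine ⟨fun h => ?_, fun h => by rw [h, map_zero]; exact Q.zero_mem⟩
    by_contra h0
    exact Set.disjoint_left.1 hQd h
      ⟨_, mem_nonZeroDivisors_of_ne_zero h0, rfl⟩

omit C in
/-- Locally at `q`, an unramified algebra is the quotient of an étale one by an ideal dying in the
local ring there. -/
theorem exists_chart (p : Ideal A) [p.IsPrime] (q : Ideal B) [q.IsPrime] [q.LiesOver p]
    [Algebra.FiniteType A B] [Algebra.IsUnramifiedAt A q]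
    [IsDomain (Localization.AtPrime p)] (hA : CAlg2.IsGeomUnibranch (Localization.AtPrime p))
    (hgen : ∃ P : Ideal B, P.IsPrime ∧ P ≤ q ∧
      P.comap (algebraMap A B) = RingHom.ker (algebraMap A (Localization.AtPrime p))) :
    ∃ f ∉ q, ∃ (P : StandardEtalePair A) (φ : P.Ring →ₐ[A] Localization.Away f),
      Function.Surjective φ ∧ ∃ (Q : Ideal P.Ring) (_ : Q.IsPrime),
        IsDomain (Localization.AtPrime Q) ∧
        Q = (q.map (algebraMap B (Localization.Away f))).comap φ.toRingHom ∧
        ∀ x, φ x = 0 → algebraMap P.Ring (Localization.AtPrime Q) x = 0 := by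
  obtain ⟨f, hf, P, φ, hφ⟩ := Algebra.IsUnramifiedAt.exists_hasStandardEtaleSurjectionOn (R := A) q
  obtain ⟨P₀, hP₀, hP₀q, hP₀A⟩ := hgen
  have hdisj : ∀ I : Ideal B, I.IsPrime → f ∉ I → Disjoint (Submonoid.powers f : Set B) I := by
    intro I hI hfI
    rw [Set.disjoint_left]
    rintro _ ⟨n, rfl⟩ h
    exact hfI (hI.mem_of_pow_mem n h)
  have hq' := IsLocalization.isPrime_of_isPrime_disjoint (.powers f) (Localization.Away f) q ‹_›
    (hdisj q ‹_› hf)
  have hP' := IsLocalization.isPrime_of_isPrime_disjoint (.powers f) (Localization.Away f) P₀ hP₀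
    (hdisj P₀ hP₀ fun h => hf (hP₀q h))
  set Q := (q.map (algebraMap B (Localization.Away f))).comap φ.toRingHom
  haveI hQ : Q.IsPrime := Ideal.IsPrime.comap _
  have hcm : ∀ I : Ideal B, I.IsPrime → f ∉ I →
      (I.map (algebraMap B (Localization.Away f))).comap (algebraMap B _) = I := fun I hI hfI =>
    IsLocalization.comap_map_of_isPrime_disjoint (.powers f) _ hI (hdisj I hI hfI)
  have hcomp : φ.toRingHom.comp (algebraMap A P.Ring) = algebraMap A (Localization.Away f) :=
    φ.comp_algebraMap
  haveI : Q.LiesOver p := ⟨by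
    rw [Ideal.under_def, Ideal.comap_comap, hcomp,
      IsScalarTower.algebraMap_eq A B (Localization.Away f), ← Ideal.comap_comap,
      hcm q ‹_› hf,
      ← Ideal.under_def, ← q.over_def p]⟩
  refine ⟨f, hf, P, φ, hφ, Q, hQ, (atPrime_of_etale p Q hA).1, rfl, fun x hx => ?_⟩
  set J := (P₀.map (algebraMap B (Localization.Away f))).comap φ.toRingHom
  haveI : J.IsPrime := Ideal.IsPrime.comap _
  have hJQ : J ≤ Q := Ideal.comap_mono (Ideal.map_mono hP₀q)
  have hJA : J.comap (algebraMap A P.Ring) = RingHom.ker (algebraMap A (Localization.AtPrime p)) := by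
    rw [Ideal.comap_comap, hcomp, IsScalarTower.algebraMap_eq A B (Localization.Away f),
      ← Ideal.comap_comap,
      hcm P₀ hP₀ fun h => hf (hP₀q h),
      hP₀A]
  have hxJ : x ∈ J := by
    rw [Ideal.mem_comap]
    change φ x ∈ _
    rw [hx]
    exact zero_mem _
  rw [eq_ker_toAtPrime p Q hA J hJQ hJA] at hxJ
  exact hxJ

omit C in
/-- From a chart whose kernel is killed by an element outside the point, an étale neighbourhood. -/
theorem exists_etale_of_chart (q : Ideal B) [q.IsPrime] {f : B} (hf : f ∉ q) (P : StandardEtalePair A)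
    (φ : P.Ring →ₐ[A] Localization.Away f) (hφ : Function.Surjective φ) (s : P.Ring)
    (hs : φ s ∉ q.map (algebraMap B (Localization.Away f))) (hker : ∀ x, φ x = 0 → s * x = 0) :
    ∃ g : B, g ∉ q ∧ Algebra.Etale A (Localization.Away g) := by
  obtain ⟨⟨b, ⟨_, n, rfl⟩⟩, hb⟩ := IsLocalization.surj (Submonoid.powers f) (φ s)
  dsimp only at hb
  have hbq : b ∉ q := fun h => by
    have h1 : φ s * algebraMap B (Localization.Away f) (f ^ n) ∈ q.map (algebraMap B _) :=
      hb ▸ Ideal.mem_map_of_mem _ h
    exact hs ((Ideal.mul_unit_mem_iff_mem _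
      (IsLocalization.map_units (Localization.Away f) (⟨f ^ n, n, rfl⟩ : Submonoid.powers f))).1 h1)
  refine ⟨f * b, ‹q.IsPrime›.mul_notMem hf hbq, ?_⟩
  let L := Localization.Away (φ s)
  letI : Algebra P.Ring (Localization.Away f) := φ.toRingHom.toAlgebra
  let ψ : Localization.Away s →ₐ[A] L :=
    IsLocalization.Away.mapₐ (Localization.Away s) L φ s
  have hψ : Function.Bijective ψ := by
    refine ⟨?_, IsLocalization.Away.mapₐ_surjective_of_surjective s hφ⟩
    refine (injective_iff_map_eq_zero ψ).2 fun z hz => ?_
    obtain ⟨⟨c, ⟨_, m, rfl⟩⟩, hc⟩ := IsLocalization.surj (Submonoid.powers s) z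
    dsimp only at hc
    have h1 := congrArg ψ hc
    rw [map_mul, hz, zero_mul] at h1
    have h2 : algebraMap (Localization.Away f) L (φ c) = 0 := by
      rw [h1]
      exact (IsLocalization.map_eq (M := Submonoid.powers s) (S := Localization.Away s) (T := Submonoid.powers (φ s)) (Q := L)
        (g := φ.toRingHom) (by rintro _ ⟨j, rfl⟩; exact ⟨j, (map_pow φ s j).symm⟩) c).symm
    obtain ⟨⟨_, k, rfl⟩, hk⟩ := (IsLocalization.map_eq_zero_iff (Submonoid.powers (φ s)) L _).1 h2
    have h3 : s * (s ^ k * c) = 0 := hker _ (by rw [map_mul, map_pow]; exact hk)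
    have h4 : algebraMap P.Ring (Localization.Away s) c = 0 := by
      refine (IsLocalization.map_eq_zero_iff (Submonoid.powers s) _ c).2 ⟨⟨s ^ (k + 1), k + 1, rfl⟩, ?_⟩
      show s ^ (k + 1) * c = 0
      rw [pow_succ', mul_assoc, h3]
    rw [h4] at hc
    exact (IsLocalization.map_units (Localization.Away s)
      (⟨s ^ m, m, rfl⟩ : Submonoid.powers s)).mul_left_eq_zero.1 hc
  haveI : Algebra.IsStandardEtale A (Localization.Away s) := .of_isLocalizationAway s
  haveI : Algebra.Etale A L := .of_equiv (AlgEquiv.ofBijective ψ hψ)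
  have hassoc : Associated (φ s) (algebraMap B (Localization.Away f) b) :=
    ⟨(IsLocalization.map_units (Localization.Away f) (⟨f ^ n, n, rfl⟩ : Submonoid.powers f)).unit, hb⟩
  haveI : IsLocalization.Away (algebraMap B (Localization.Away f) b) L :=
    IsLocalization.Away.of_associated hassoc
  haveI : IsLocalization.Away (f * b) L := .mul' (Localization.Away f) L f b
  exact .of_equiv ((IsLocalization.algEquiv (Submonoid.powers (f * b)) L
    (Localization.Away (f * b))).restrictScalars A)

omit C in
/-- Unramified over a geometrically unibranch local domain and dominant: étale (finite presentation). -/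
theorem exists_etale_of_fp (p : Ideal A) [p.IsPrime] (q : Ideal B) [q.IsPrime] [q.LiesOver p]
    [Algebra.FinitePresentation A B] [Algebra.IsUnramifiedAt A q]
    [IsDomain (Localization.AtPrime p)] (hA : CAlg2.IsGeomUnibranch (Localization.AtPrime p))
    (hgen : ∃ P : Ideal B, P.IsPrime ∧ P ≤ q ∧
      P.comap (algebraMap A B) = RingHom.ker (algebraMap A (Localization.AtPrime p))) :
    ∃ g : B, g ∉ q ∧ Algebra.Etale A (Localization.Away g) := by
  obtain ⟨f, hf, P, φ, hφ, Q, hQ, -, hQeq, hker⟩ := exists_chart p q hA hgen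
  haveI : Algebra.FinitePresentation B (Localization.Away f) :=
    IsLocalization.Away.finitePresentation f
  haveI : Algebra.FinitePresentation A (Localization.Away f) :=
    Algebra.FinitePresentation.trans A B (Localization.Away f)
  obtain ⟨T, hT⟩ := Algebra.FinitePresentation.ker_fG_of_surjective φ hφ
  have hT' : ∀ x ∈ T, ∃ s : Q.primeCompl, (s : P.Ring) * x = 0 := fun x hx =>
    (IsLocalization.map_eq_zero_iff Q.primeCompl _ x).1
      (hker x (RingHom.mem_ker.1 (hT ▸ Ideal.subset_span hx)))
  choose s hs using hT'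
  let t : Q.primeCompl := ∏ x ∈ T.attach, s x.1 x.2
  refine exists_etale_of_chart q hf P φ hφ t (fun h => t.2 (hQeq ▸ h)) fun x hx => ?_
  have h1 : x ∈ Ideal.span (T : Set P.Ring) := hT ▸ hx
  refine Submodule.span_induction (p := fun x _ => (t : P.Ring) * x = 0) ?_ (mul_zero _)
    (fun a b _ _ ha hb => by rw [mul_add, ha, hb, add_zero])
    (fun a b _ hb => by rw [smul_eq_mul, mul_left_comm, hb, mul_zero]) h1
  intro a ha
  obtain ⟨c, hc⟩ : s a ha ∣ t := Finset.dvd_prod_of_mem (fun x : {x // x ∈ T} => s x.1 x.2) (T.mem_attach ⟨a, ha⟩)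
  rw [hc, Submonoid.coe_mul, mul_right_comm, hs, zero_mul]

omit C in
/-- Same over a domain, with finite type only. -/
theorem exists_etale_of_domain [IsDomain A] (p : Ideal A) [p.IsPrime] (q : Ideal B) [q.IsPrime]
    [q.LiesOver p] [Algebra.FiniteType A B] [Algebra.IsUnramifiedAt A q]
    (hA : CAlg2.IsGeomUnibranch (Localization.AtPrime p))
    (hgen : ∃ P : Ideal B, P.IsPrime ∧ P ≤ q ∧ P.comap (algebraMap A B) = ⊥) :
    ∃ g : B, g ∉ q ∧ Algebra.Etale A (Localization.Away g) := by
  haveI : IsDomain (Localization.AtPrime p) :=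
    IsLocalization.isDomain_localization p.primeCompl_le_nonZeroDivisors
  have h0 : RingHom.ker (algebraMap A (Localization.AtPrime p)) = ⊥ :=
    (RingHom.injective_iff_ker_eq_bot _).1 (IsLocalization.injective _ p.primeCompl_le_nonZeroDivisors)
  obtain ⟨f, hf, P, φ, hφ, Q, hQ, hdom, hQeq, hker⟩ := exists_chart p q hA (h0.symm ▸ hgen)
  haveI : IsReduced P.Ring := isReduced_ofLocalizationMaximal P.Ring fun J _ =>
    (EtaleLocalProps.atPrime_ascend A P.Ring J).1 inferInstance
  have hfin : (minimalPrimes P.Ring).Finite :=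
    UnramLib.finite_minimalPrimes_of_etale A P.Ring
      (by rw [IsDomain.minimalPrimes_eq_singleton_bot]; exact Set.finite_singleton _)
  haveI := hdom
  set P₀ := RingHom.ker (algebraMap P.Ring (Localization.AtPrime Q))
  have hbad : ∀ I ∈ minimalPrimes P.Ring, I ≠ P₀ → ∃ x ∈ I, x ∉ Q := by
    intro I hI hne
    by_contra h
    push Not at h
    haveI := hI.1.1
    exact hne (le_antisymm (hI.2 ⟨RingHom.ker_isPrime _, bot_le⟩ (ker_toAtPrime_le Q I h))
      (ker_toAtPrime_le Q I h))
  classical
  choose x hx hxQ using hbad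
  let S' := hfin.toFinset.filter (· ≠ P₀)
  have hmem : ∀ I : {I // I ∈ S'}, I.1 ∈ minimalPrimes P.Ring ∧ I.1 ≠ P₀ := fun I => by
    obtain ⟨h1, h2⟩ := Finset.mem_filter.1 I.2
    exact ⟨hfin.mem_toFinset.1 h1, h2⟩
  let t : P.Ring := ∏ I ∈ S'.attach, x I.1 (hmem I).1 (hmem I).2
  have ht : t ∉ Q := fun h => by
    obtain ⟨I, -, hI⟩ := (hQ.prod_mem_iff).1 h
    exact hxQ _ _ _ hI
  refine exists_etale_of_chart q hf P φ hφ t (fun h => ht (hQeq ▸ h)) fun y hy => ?_
  refine (mem_nilradical.1 ?_).eq_zero
  rw [nilradical_eq_sInf, Submodule.mem_sInf]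
  intro J hJ
  haveI : Ideal.IsPrime J := hJ
  obtain ⟨I, hI, hIJ⟩ := Ideal.exists_minimalPrimes_le (bot_le : (⊥ : Ideal P.Ring) ≤ J)
  refine hIJ ?_
  by_cases hne : I = P₀
  · exact I.mul_mem_left _ (hne ▸ hker y hy)
  · refine I.mul_mem_right _ ?_
    refine I.mem_of_dvd (Finset.dvd_prod_of_mem _ (S'.mem_attach ⟨I, ?_⟩)) (hx I hI hne)
    exact Finset.mem_filter.2 ⟨hfin.mem_toFinset.2 hI, hne⟩

end unramified

end Groth.Agent.UnibranchEtale
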