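import Mathlib
import Groth.Agent.UnibranchEtale.Ring
import Groth.Agent.Unibranch.Local

/-!
Unramified morphisms over geometrically unibranch points: scheme forms.
-/

set_option autoImplicit false
set_option linter.style.haveILetI false

universe u

open CategoryTheory AlgebraicGeometry TopologicalSpace CAlg2

namespace Groth.Agent.UnibranchEtale

variable {X Y : Scheme.{u}} (f : X ⟶ Y)

theorem resLE_iff_appLE (P : MorphismProperty Scheme.{u})
    {Q : ∀ {R S : Type u} [CommRing R] [CommRing S], (R →+* S) → Prop} [HasRingHomProperty P Q]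
    {U : X.Opens} (hU : IsAffineOpen U) {V : Y.Opens} (hV : IsAffineOpen V) (e : U ≤ f ⁻¹ᵁ V) :
    P (f.resLE V U e) ↔ Q (f.appLE V U e).hom := by
  haveI : IsAffine U := hU
  haveI : IsAffine V := hV
  haveI : (RingHom.toMorphismProperty Q).RespectsIso :=
    RingHom.toMorphismProperty_respectsIso_iff.mp (HasRingHomProperty.isLocal_ringHomProperty P).respectsIso
  rw [HasRingHomProperty.iff_of_isAffine (P := P)]
  exact MorphismProperty.arrow_mk_iso_iff (RingHom.toMorphismProperty Q) (arrowResLEAppIso f V U e)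

/-- Transfer between a stalk and the localisation at the corresponding prime. -/
theorem stalk_localization (V : Y.Opens) (hV : IsAffineOpen V) (y : Y) (hy : y ∈ V) :
    (IsDomain (Y.presheaf.stalk y) ↔ IsDomain (Localization.AtPrime (hV.primeIdealOf ⟨y, hy⟩).asIdeal)) ∧
    (IsGeomUnibranch (Y.presheaf.stalk y) ↔
      IsGeomUnibranch (Localization.AtPrime (hV.primeIdealOf ⟨y, hy⟩).asIdeal)) := by
  letI := TopCat.Presheaf.algebra_section_stalk Y.presheaf (⟨y, hy⟩ : V)
  haveI := hV.isLocalization_stalk ⟨y, hy⟩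
  set p := (hV.primeIdealOf ⟨y, hy⟩).asIdeal
  let e := IsLocalization.algEquiv p.primeCompl (Y.presheaf.stalk y) (Localization.AtPrime p)
  refine ⟨⟨fun h => e.symm.injective.isDomain e.symm.toRingHom, fun h => e.injective.isDomain e.toRingHom⟩,
    fun h => ?_, fun h => ?_⟩
  · obtain ⟨p₀, h0, hle, hmin, hG⟩ := Unibranch.exists_guAt_of_isGeomUnibranch p (Y.presheaf.stalk y) h
    exact Unibranch.isGeomUnibranch_of_guAt p p₀ _ hle hmin fun _ => hG
  · obtain ⟨p₀, h0, hle, hmin, hG⟩ := Unibranch.exists_guAt_of_isGeomUnibranch p (Localization.AtPrime p) h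
    exact Unibranch.isGeomUnibranch_of_guAt p p₀ _ hle hmin fun _ => hG

/-- Affine chart inside a given neighbourhood of the source. -/
theorem exists_affine_chart (x : X) (U₀ : X.Opens) (hx : x ∈ U₀) :
    ∃ (V : Y.Opens) (_ : IsAffineOpen V) (U : X.Opens) (_ : IsAffineOpen U),
      x ∈ U ∧ U ≤ U₀ ∧ U ≤ f ⁻¹ᵁ V := by
  obtain ⟨V, hV, hxV, -⟩ := exists_isAffineOpen_mem_and_subset (U := ⊤) (x := f x) trivial
  obtain ⟨U, hU, hxU, hUV⟩ := exists_isAffineOpen_mem_and_subset (U := U₀ ⊓ f ⁻¹ᵁ V) (x := x) ⟨hx, hxV⟩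
  exact ⟨V, hV, U, hU, hxU, fun z hz => (hUV hz).1, fun z hz => (hUV hz).2⟩

theorem formallyUnramified_resLE (U₀ : X.Opens) [FormallyUnramified (U₀.ι ≫ f)] (V : Y.Opens)
    (U : X.Opens) (h : U ≤ U₀) (e : U ≤ f ⁻¹ᵁ V) : FormallyUnramified (f.resLE V U e) := by
  haveI : FormallyUnramified (f.resLE V U e ≫ V.ι) := by
    rw [Scheme.Hom.resLE_comp_ι, ← X.homOfLE_ι h, Category.assoc]
    exact MorphismProperty.comp_mem @FormallyUnramified _ _ (HasRingHomProperty.of_isOpenImmersion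
      (P := @FormallyUnramified) RingHom.FormallyUnramified.holdsForLocalizationAway.containsIdentities) ‹_›
  exact FormallyUnramified.of_comp (f.resLE V U e) V.ι

theorem etale_ι_comp {U : X.Opens} {V : Y.Opens} (e : U ≤ f ⁻¹ᵁ V) [Etale (f.resLE V U e)] :
    Etale (U.ι ≫ f) := by
  rw [← Scheme.Hom.resLE_comp_ι f e]
  infer_instance

theorem exists_opens_etale (x : X) {V : Y.Opens} (hV : IsAffineOpen V) {U : X.Opens} (hU : IsAffineOpen U)
    (hxU : x ∈ U) (e : U ≤ f ⁻¹ᵁ V) (g : Γ(X, U)) (hg : g ∉ (hU.primeIdealOf ⟨x, hxU⟩).asIdeal)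
    (het : letI := (f.appLE V U e).hom.toAlgebra; Algebra.Etale Γ(Y, V) (Localization.Away g)) :
    ∃ W : X.Opens, x ∈ W ∧ Etale (W.ι ≫ f) := by
  letI := (f.appLE V U e).hom.toAlgebra
  haveI := het
  have hle : X.basicOpen g ≤ U := X.basicOpen_le g
  have e' : X.basicOpen g ≤ f ⁻¹ᵁ V := hle.trans e
  letI : Algebra Γ(Y, V) Γ(X, X.basicOpen g) := (f.appLE V (X.basicOpen g) e').hom.toAlgebra
  haveI := hU.isLocalization_basicOpen g
  haveI : IsScalarTower Γ(Y, V) Γ(X, U) Γ(X, X.basicOpen g) := IsScalarTower.of_algebraMap_eq' (by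
    change (f.appLE V (X.basicOpen g) e').hom = _
    rw [← f.appLE_map e (homOfLE hle).op]
    rfl)
  haveI : Algebra.Etale Γ(Y, V) Γ(X, X.basicOpen g) :=
    .of_equiv ((IsLocalization.algEquiv (Submonoid.powers g) (Localization.Away g)
      Γ(X, X.basicOpen g)).restrictScalars Γ(Y, V))
  refine ⟨X.basicOpen g, ?_, ?_⟩
  · by_contra hx
    refine hg ?_
    have h1 : hU.primeIdealOf ⟨x, hxU⟩ ∉ PrimeSpectrum.basicOpen g := by
      intro h
      refine hx ?_
      rw [← hU.fromSpec_preimage_basicOpen g] at h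
      change hU.fromSpec (hU.primeIdealOf ⟨x, hxU⟩) ∈ X.basicOpen g at h
      rwa [hU.fromSpec_primeIdealOf] at h
    exact not_not.1 h1
  · haveI : Etale (f.resLE V (X.basicOpen g) e') :=
      (resLE_iff_appLE f @Etale (hU.basicOpen g) hV e').2 ‹Algebra.Etale Γ(Y, V) Γ(X, X.basicOpen g)›
    exact etale_ι_comp f e'

theorem primeIdealOf_le {U : X.Opens} (hU : IsAffineOpen U) {x x' : X} (hx : x ∈ U) (hx' : x' ∈ U)
    (h : x' ⤳ x) : (hU.primeIdealOf ⟨x', hx'⟩).asIdeal ≤ (hU.primeIdealOf ⟨x, hx⟩).asIdeal := by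
  rw [PrimeSpectrum.asIdeal_le_asIdeal, PrimeSpectrum.le_iff_specializes]
  refine (hU.fromSpec.isOpenEmbedding.isInducing.specializes_iff).mp ?_
  convert h using 1 <;> exact hU.fromSpec_primeIdealOf _

theorem primeIdealOf_genericPoint_eq_bot [IsIntegral Y] {V : Y.Opens} (hV : IsAffineOpen V)
    (h : genericPoint Y ∈ V) : (hV.primeIdealOf ⟨genericPoint Y, h⟩).asIdeal = ⊥ := by
  haveI : Nonempty V := ⟨⟨_, h⟩⟩
  let b : PrimeSpectrum Γ(Y, V) := ⟨⊥, Ideal.isPrime_bot⟩
  have hb : hV.fromSpec b ∈ V := by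
    rw [← SetLike.mem_coe, ← hV.range_fromSpec]
    exact ⟨b, rfl⟩
  have := primeIdealOf_le hV hb h ((genericPoint_spec Y).specializes (Set.mem_univ _))
  have h2 : hV.primeIdealOf ⟨hV.fromSpec b, hb⟩ = b :=
    hV.fromSpec.isOpenEmbedding.injective (hV.fromSpec_primeIdealOf _)
  rw [h2] at this
  exact le_bot_iff.1 this

/-- Core: unramified near `x`, a geometrically unibranch domain below, and a generisation over the
generic point. -/
theorem exists_etale_of_generization [IsIntegral Y] [LocallyOfFiniteType f] (x : X)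
    (hY : IsGeomUnibranch (Y.presheaf.stalk (f x))) (hsp : ∃ x' : X, x' ⤳ x ∧ f x' = genericPoint Y)
    (hunr : ∃ U : X.Opens, x ∈ U ∧ FormallyUnramified (U.ι ≫ f)) :
    ∃ U : X.Opens, x ∈ U ∧ Etale (U.ι ≫ f) := by
  obtain ⟨U₀, hx₀, hU₀⟩ := hunr
  obtain ⟨x', hx', hη⟩ := hsp
  obtain ⟨V, hV, U, hU, hxU, hle, e⟩ := exists_affine_chart f x U₀ hx₀
  haveI := formallyUnramified_resLE f U₀ V U hle e
  have hfu : (f.appLE V U e).hom.FormallyUnramified :=
    (resLE_iff_appLE f @FormallyUnramified hU hV e).1 inferInstance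
  have hft : (f.appLE V U e).hom.FiniteType := f.finiteType_appLE hV hU e
  haveI : Nonempty V := ⟨⟨f x, e hxU⟩⟩
  letI := (f.appLE V U e).hom.toAlgebra
  haveI : Algebra.FormallyUnramified Γ(Y, V) Γ(X, U) := hfu
  haveI : Algebra.FiniteType Γ(Y, V) Γ(X, U) := hft
  set q := (hU.primeIdealOf ⟨x, hxU⟩).asIdeal
  set p := (hV.primeIdealOf ⟨f x, e hxU⟩).asIdeal
  haveI : q.LiesOver p :=
    ⟨(congrArg PrimeSpectrum.asIdeal (IsAffineOpen.comap_primeIdealOf_appLE V hV U hU e hxU)).symm⟩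
  haveI : Algebra.IsUnramifiedAt Γ(Y, V) q := Algebra.formallyUnramified_iff_forall.1 hfu ⟨q, inferInstance⟩
  have hx'U : x' ∈ U := hx'.mem_open U.2 hxU
  obtain ⟨g, hg, het⟩ := exists_etale_of_domain p q ((stalk_localization V hV _ _).2.1 hY)
    ⟨(hU.primeIdealOf ⟨x', hx'U⟩).asIdeal, inferInstance, primeIdealOf_le hU hxU hx'U hx', by
      have h1 := congrArg PrimeSpectrum.asIdeal (IsAffineOpen.comap_primeIdealOf_appLE V hV U hU e hx'U)
      refine h1.trans ?_
      have h2 : genericPoint Y ∈ V := hη ▸ e hx'U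
      rw [show (⟨f x', e hx'U⟩ : V) = ⟨genericPoint Y, h2⟩ from Subtype.ext hη]
      exact primeIdealOf_genericPoint_eq_bot hV h2⟩
  exact exists_opens_etale f x hV hU hxU e g hg het

theorem localRingHom_injective_iff (x : X) {V : Y.Opens} (hV : IsAffineOpen V) {U : X.Opens}
    (hU : IsAffineOpen U) (hxU : x ∈ U) (e : U ≤ f ⁻¹ᵁ V)
    (h : (hV.primeIdealOf ⟨f x, e hxU⟩).asIdeal =
      (hU.primeIdealOf ⟨x, hxU⟩).asIdeal.comap (f.appLE V U e).hom) :
    Function.Injective (Localization.localRingHom (hV.primeIdealOf ⟨f x, e hxU⟩).asIdeal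
        (hU.primeIdealOf ⟨x, hxU⟩).asIdeal (f.appLE V U e).hom h) ↔
      Function.Injective (f.stalkMap x) := by
  letI := TopCat.Presheaf.algebra_section_stalk Y.presheaf (⟨f x, e hxU⟩ : V)
  letI := TopCat.Presheaf.algebra_section_stalk X.presheaf (⟨x, hxU⟩ : U)
  haveI := hV.isLocalization_stalk ⟨f x, e hxU⟩
  haveI := hU.isLocalization_stalk ⟨x, hxU⟩
  set p := (hV.primeIdealOf ⟨f x, e hxU⟩).asIdeal
  set q := (hU.primeIdealOf ⟨x, hxU⟩).asIdeal
  let eY := IsLocalization.algEquiv p.primeCompl (Localization.AtPrime p) (Y.presheaf.stalk (f x))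
  let eX := IsLocalization.algEquiv q.primeCompl (Localization.AtPrime q) (X.presheaf.stalk x)
  have hsq : (f.stalkMap x).hom.comp eY.toRingEquiv.toRingHom =
      eX.toRingEquiv.toRingHom.comp (Localization.localRingHom p q (f.appLE V U e).hom h) := by
    refine IsLocalization.ringHom_ext p.primeCompl (RingHom.ext fun a => ?_)
    change f.stalkMap x (eY (algebraMap Γ(Y, V) _ a)) =
      eX (Localization.localRingHom p q (f.appLE V U e).hom h (algebraMap Γ(Y, V) _ a))
    rw [Localization.localRingHom_to_map, AlgEquiv.commutes, AlgEquiv.commutes]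
    change f.stalkMap x (Y.presheaf.germ V (f x) (e hxU) a) =
      X.presheaf.germ U x hxU (f.appLE V U e a)
    rw [Scheme.Hom.germ_stalkMap_apply, Scheme.Hom.appLE]
    exact (TopCat.Presheaf.germ_res_apply X.presheaf (homOfLE e) x hxU _).symm
  have hsq' : ∀ z, f.stalkMap x (eY z) = eX (Localization.localRingHom p q (f.appLE V U e).hom h z) :=
    fun z => RingHom.congr_fun hsq z
  refine ⟨fun hi a b hab => ?_, fun hi a b hab => ?_⟩
  · obtain ⟨a, rfl⟩ := eY.surjective a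
    obtain ⟨b, rfl⟩ := eY.surjective b
    rw [hsq', hsq'] at hab
    exact congrArg eY (hi (eX.injective hab))
  · apply eY.injective
    apply hi
    rw [hsq', hsq', hab]

/-- The finitely presented form, with the injectivity of the local map. -/
theorem exists_etale_of_injective [LocallyOfFinitePresentation f] (x : X)
    (hd : IsDomain (Y.presheaf.stalk (f x))) (hY : IsGeomUnibranch (Y.presheaf.stalk (f x)))
    (hinj : Function.Injective (f.stalkMap x))
    (hunr : ∃ U : X.Opens, x ∈ U ∧ FormallyUnramified (U.ι ≫ f)) :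
    ∃ U : X.Opens, x ∈ U ∧ Etale (U.ι ≫ f) := by
  obtain ⟨U₀, hx₀, hU₀⟩ := hunr
  obtain ⟨V, hV, U, hU, hxU, hle, e⟩ := exists_affine_chart f x U₀ hx₀
  haveI := formallyUnramified_resLE f U₀ V U hle e
  have hfu : (f.appLE V U e).hom.FormallyUnramified :=
    (resLE_iff_appLE f @FormallyUnramified hU hV e).1 inferInstance
  have hfp : (f.appLE V U e).hom.FinitePresentation :=
    HasRingHomProperty.appLE (P := @LocallyOfFinitePresentation) f inferInstance ⟨V, hV⟩ ⟨U, hU⟩ e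
  letI := (f.appLE V U e).hom.toAlgebra
  haveI : Algebra.FinitePresentation Γ(Y, V) Γ(X, U) := hfp
  set q := (hU.primeIdealOf ⟨x, hxU⟩).asIdeal
  set p := (hV.primeIdealOf ⟨f x, e hxU⟩).asIdeal
  haveI hlo : q.LiesOver p :=
    ⟨(congrArg PrimeSpectrum.asIdeal (IsAffineOpen.comap_primeIdealOf_appLE V hV U hU e hxU)).symm⟩
  haveI : Algebra.IsUnramifiedAt Γ(Y, V) q := Algebra.formallyUnramified_iff_forall.1 hfu ⟨q, inferInstance⟩
  haveI : IsDomain (Localization.AtPrime p) := (stalk_localization V hV _ _).1.1 hd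
  obtain ⟨g, hg, het⟩ := exists_etale_of_fp p q ((stalk_localization V hV _ _).2.1 hY)
    (exists_prime_of_injective p q ((localRingHom_injective_iff f x hV hU hxU e (q.over_def p)).2 hinj))
  exact exists_opens_etale f x hV hU hxU e g hg het

theorem stalkMap_injective_of_etale (x : X) (h : ∃ U : X.Opens, x ∈ U ∧ Etale (U.ι ≫ f)) :
    Function.Injective (f.stalkMap x) := by
  obtain ⟨U, hxU, hU⟩ := h
  haveI := EtaleLocalProps.faithfullyFlat_stalkMap (U.ι ≫ f) ⟨x, hxU⟩
  letI := ((U.ι ≫ f).stalkMap ⟨x, hxU⟩).hom.toAlgebra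
  have h1 : Function.Injective ((U.ι ≫ f).stalkMap ⟨x, hxU⟩) :=
    FaithfulSMul.algebraMap_injective _ (U.toScheme.presheaf.stalk ⟨x, hxU⟩)
  rw [Scheme.Hom.stalkMap_comp] at h1
  intro a b hab
  apply h1
  change (U.ι.stalkMap ⟨x, hxU⟩) ((f.stalkMap x) a) = (U.ι.stalkMap ⟨x, hxU⟩) ((f.stalkMap x) b)
  rw [hab]

/-- Étale over a geometrically unibranch local domain: so is the source. -/
theorem stalk_of_etale (x : X) (hd : IsDomain (Y.presheaf.stalk (f x)))
    (hY : IsGeomUnibranch (Y.presheaf.stalk (f x))) (h : ∃ U : X.Opens, x ∈ U ∧ Etale (U.ι ≫ f)) :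
    IsDomain (X.presheaf.stalk x) ∧ IsGeomUnibranch (X.presheaf.stalk x) := by
  obtain ⟨U₀, hx₀, hU₀⟩ := h
  obtain ⟨V, hV, U, hU, hxU, hle, e⟩ := exists_affine_chart f x U₀ hx₀
  haveI : Etale (f.resLE V U e) := by
    haveI : Etale (f.resLE V U e ≫ V.ι) := by
      rw [Scheme.Hom.resLE_comp_ι, ← X.homOfLE_ι hle, Category.assoc]
      infer_instance
    exact MorphismProperty.of_postcomp (W := @Etale) (W' := @IsOpenImmersion) _ V.ι inferInstance ‹_›
  have het : (f.appLE V U e).hom.Etale := (resLE_iff_appLE f @Etale hU hV e).1 inferInstance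
  letI := (f.appLE V U e).hom.toAlgebra
  haveI : Algebra.Etale Γ(Y, V) Γ(X, U) := het
  set q := (hU.primeIdealOf ⟨x, hxU⟩).asIdeal
  set p := (hV.primeIdealOf ⟨f x, e hxU⟩).asIdeal
  haveI hlo : q.LiesOver p :=
    ⟨(congrArg PrimeSpectrum.asIdeal (IsAffineOpen.comap_primeIdealOf_appLE V hV U hU e hxU)).symm⟩
  haveI : IsDomain (Localization.AtPrime p) := (stalk_localization V hV _ _).1.1 hd
  obtain ⟨h1, h2⟩ := atPrime_of_etale p q ((stalk_localization V hV _ _).2.1 hY)
  exact ⟨(stalk_localization U hU x hxU).1.2 h1, (stalk_localization U hU x hxU).2.2 h2⟩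

end Groth.Agent.UnibranchEtale

namespace Groth.Agent.UnibranchEtale

theorem locallyQuasiFinite_of_unramified {X Y : Scheme.{u}} (f : X ⟶ Y) [LocallyOfFiniteType f]
    [FormallyUnramified f] : LocallyQuasiFinite f := by
  rw [HasRingHomProperty.iff_appLE (P := @LocallyQuasiFinite)]
  intro U V e
  have h1 : (f.appLE U V e).hom.FormallyUnramified :=
    HasRingHomProperty.appLE (P := @FormallyUnramified) f inferInstance U V e
  have h2 : (f.appLE U V e).hom.FiniteType := f.finiteType_appLE U.2 V.2 e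
  letI := (f.appLE U V e).hom.toAlgebra
  haveI : Algebra.FormallyUnramified Γ(Y, U) Γ(X, V) := h1
  haveI : Algebra.FiniteType Γ(Y, U) Γ(X, V) := h2
  exact (⟨fun P _ => Algebra.FormallyUnramified.finite_of_free P.ResidueField _⟩ :
    Algebra.QuasiFinite Γ(Y, U) Γ(X, V))

theorem exists_generization_of_etale {X Y : Scheme.{u}} (f : X ⟶ Y) [IrreducibleSpace Y] {x : X}
    (U : X.Opens) [Etale (U.ι ≫ f)] (hx : x ∈ U) : ∃ x' : X, x' ⤳ x ∧ f x' = genericPoint Y := by
  obtain ⟨a, ha, hfa⟩ := Flat.generalizingMap (U.ι ≫ f)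
    (show genericPoint Y ⤳ (U.ι ≫ f) ⟨x, hx⟩ from (genericPoint_spec Y).specializes trivial)
  exact ⟨U.ι a, ha.map U.ι.continuous, hfa⟩

theorem finite_inter_fibre {X Y : Scheme.{u}} (f : X ⟶ Y) [LocallyQuasiFinite f] (x : X) (y : Y) :
    ∃ U : X.Opens, x ∈ U ∧ ((U : Set X) ∩ f ⁻¹' {y}).Finite := by
  obtain ⟨V, hV, U, hU, hxU, -, e⟩ := exists_affine_chart f x ⊤ trivial
  refine ⟨U, hxU, ?_⟩
  by_cases hy : y ∈ V
  · haveI : IsAffine U := hU
    haveI : IsAffine V := hV
    refine ((Scheme.Hom.finite_preimage_singleton (f.resLE V U e) ⟨y, hy⟩).image U.ι).subset ?_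
    rintro z ⟨hzU, hz⟩
    refine ⟨⟨z, hzU⟩, ?_, rfl⟩
    have h1 : V.ι (f.resLE V U e ⟨z, hzU⟩) = f z := by
      rw [← Scheme.Hom.comp_apply, Scheme.Hom.resLE_comp_ι]
      rfl
    exact Subtype.ext (h1.trans hz)
  · refine Set.finite_empty.subset ?_
    rintro z ⟨hzU, hz⟩
    exact hy (hz ▸ e hzU)

/-- Connected unramified over an integral geometrically unibranch base, dominant: étale and
irreducible with geometrically unibranch integral local rings. -/
theorem main_connected {X Y : Scheme.{u}} (f : X ⟶ Y) [IsIntegral Y]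
    (hY : ∀ y : Y, CAlg2.IsGeomUnibranch (Y.presheaf.stalk y)) [ConnectedSpace X]
    [FormallyUnramified f] [LocallyOfFiniteType f] (hdom : ∃ x : X, f x = genericPoint Y) :
    Etale f ∧ IrreducibleSpace X ∧
      ∀ x : X, IsDomain (X.presheaf.stalk x) ∧ CAlg2.IsGeomUnibranch (X.presheaf.stalk x) := by
  haveI := locallyQuasiFinite_of_unramified f
  let S : Set X := {x | ∃ x', x' ⤳ x ∧ f x' = genericPoint Y}
  have hunr : ∀ x : X, ∃ U : X.Opens, x ∈ U ∧ FormallyUnramified (U.ι ≫ f) := fun x =>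
    ⟨⊤, trivial, MorphismProperty.comp_mem @FormallyUnramified _ _ (HasRingHomProperty.of_isOpenImmersion
      (P := @FormallyUnramified) RingHom.FormallyUnramified.holdsForLocalizationAway.containsIdentities) ‹_›⟩
  have het : ∀ x ∈ S, ∃ U : X.Opens, x ∈ U ∧ Etale (U.ι ≫ f) := fun x hx =>
    exists_etale_of_generization f x (hY _) hx (hunr x)
  have hSo : IsOpen S := by
    rw [isOpen_iff_forall_mem_open]
    intro x hx
    obtain ⟨U, hxU, hU⟩ := het x hx
    exact ⟨U, fun z hz => exists_generization_of_etale f U hz, U.2, hxU⟩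
  have hSc : IsClosed S := by
    rw [← isOpen_compl_iff, isOpen_iff_forall_mem_open]
    intro x hx
    obtain ⟨U, hxU, hfin⟩ := finite_inter_fibre f x (genericPoint Y)
    refine ⟨(U : Set X) ∩ (⋃ t ∈ (U : Set X) ∩ f ⁻¹' {genericPoint Y}, closure {t})ᶜ, ?_,
      U.2.inter (hfin.isClosed_biUnion fun t _ => isClosed_closure).isOpen_compl, hxU, ?_⟩
    · rintro z ⟨hzU, hz⟩ ⟨z', hz', hfz'⟩
      exact hz (Set.mem_biUnion ⟨hz'.mem_open U.2 hzU, hfz'⟩ (specializes_iff_mem_closure.1 hz'))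
    · simp only [Set.mem_compl_iff, Set.mem_iUnion]
      rintro ⟨t, ⟨-, ht⟩, htx⟩
      exact hx ⟨t, specializes_iff_mem_closure.2 htx, ht⟩
  obtain ⟨x₀, hx₀⟩ := hdom
  have hS : S = Set.univ := IsClopen.eq_univ ⟨hSc, hSo⟩ ⟨x₀, x₀, specializes_rfl, hx₀⟩
  have hall : ∀ x : X, ∃ U : X.Opens, x ∈ U ∧ Etale (U.ι ≫ f) := fun x =>
    het x (hS ▸ Set.mem_univ x)
  choose U hxU hU using hall
  have hE : Etale f := by
    refine IsZariskiLocalAtSource.of_iSup_eq_top (P := @Etale) U ?_ hU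
    exact eq_top_iff.2 fun x _ => Opens.mem_iSup.2 ⟨x, hxU x⟩
  have hst : ∀ x : X, IsDomain (X.presheaf.stalk x) ∧ CAlg2.IsGeomUnibranch (X.presheaf.stalk x) :=
    fun x => stalk_of_etale f x inferInstance (hY _) ⟨U x, hxU x, hU x⟩
  have huniq : ∀ x x₁ x₂ : X, x₁ ⤳ x → x₂ ⤳ x → f x₁ = genericPoint Y → f x₂ = genericPoint Y →
      x₁ = x₂ := by
    intro x x₁ x₂ h₁ h₂ e₁ e₂
    haveI := (hst x).1
    let b : Spec (X.presheaf.stalk x) := (⟨⊥, Ideal.isPrime_bot⟩ : PrimeSpectrum (X.presheaf.stalk x))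
    have key : ∀ z, z ⤳ x → f z = genericPoint Y → X.fromSpecStalk x b = z := by
      intro z hz hfz
      obtain ⟨c, hc⟩ : z ∈ Set.range (X.fromSpecStalk x) := by rw [Scheme.range_fromSpecStalk]; exact hz
      have hbc : b ⤳ c := (PrimeSpectrum.le_iff_specializes _ _).1 (bot_le : (⊥ : Ideal _) ≤ c.asIdeal)
      have hs : X.fromSpecStalk x b ⤳ z := hc ▸ hbc.map (X.fromSpecStalk x).continuous
      have hb : f (X.fromSpecStalk x b) = genericPoint Y :=
        ((hfz ▸ hs.map f.continuous : f (X.fromSpecStalk x b) ⤳ genericPoint Y).antisymm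
          ((genericPoint_spec Y).specializes trivial)).eq
      haveI := (f.isDiscrete_preimage_singleton (genericPoint Y)).to_subtype
      have := (Topology.IsInducing.subtypeVal.specializes_iff (x := (⟨_, hb⟩ : f ⁻¹' {genericPoint Y}))
        (y := ⟨z, hfz⟩)).1 hs
      exact congrArg Subtype.val this.eq
    rw [← key x₁ h₁ e₁, key x₂ h₂ e₂]
  have hclo : IsOpen (closure ({x₀} : Set X)) := by
    rw [isOpen_iff_forall_mem_open]
    intro x hx
    obtain ⟨U, hxU, hfin⟩ := finite_inter_fibre f x (genericPoint Y)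
    refine ⟨(U : Set X) ∩ (⋃ t ∈ ((U : Set X) ∩ f ⁻¹' {genericPoint Y}) \ {x₀}, closure {t})ᶜ, ?_,
      U.2.inter ((hfin.subset Set.sdiff_subset).isClosed_biUnion fun t _ => isClosed_closure).isOpen_compl,
      hxU, ?_⟩
    · rintro z ⟨hzU, hz⟩
      obtain ⟨z', hz', hfz'⟩ : z ∈ S := hS ▸ Set.mem_univ z
      by_contra hne
      refine hz (Set.mem_biUnion ⟨⟨hz'.mem_open U.2 hzU, hfz'⟩, fun h => hne ?_⟩
        (specializes_iff_mem_closure.1 hz'))
      rw [Set.mem_singleton_iff] at h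
      exact specializes_iff_mem_closure.1 (h ▸ hz')
    · simp only [Set.mem_compl_iff, Set.mem_iUnion]
      rintro ⟨t, ⟨⟨-, ht⟩, hne⟩, htx⟩
      exact hne (huniq x t x₀ (specializes_iff_mem_closure.2 htx) (specializes_iff_mem_closure.2 hx) ht hx₀)
  have hcl : closure ({x₀} : Set X) = Set.univ :=
    IsClopen.eq_univ ⟨isClosed_closure, hclo⟩ ⟨x₀, subset_closure rfl⟩
  refine ⟨hE, ?_, hst⟩
  refine (irreducibleSpace_def X).2 ?_
  rw [Set.top_eq_univ, ← hcl]
  exact isIrreducible_singleton.closure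

end Groth.Agent.UnibranchEtale
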