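import Mathlib
import Groth.Agent.Unibranch.Components
import Groth.Agent.UnibranchEtale.Scheme

/-!
Irreducible components through geometrically unibranch points.
-/

set_option autoImplicit false
set_option linter.style.haveILetI false

universe u

open CategoryTheory AlgebraicGeometry CAlg2 TopologicalSpace PrimeSpectrum

namespace Groth.Agent.UnibranchEtale

variable {Y : Scheme.{u}}

theorem exists_generic {Z : Set Y} (hZ : Z ∈ irreducibleComponents Y) :
    ∃ η : Y, IsGenericPoint η Z ∧ ∀ z : Y, z ⤳ η → z = η := by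
  obtain ⟨η, hη⟩ := QuasiSober.sober hZ.1 (isClosed_of_mem_irreducibleComponents Z hZ)
  refine ⟨η, hη, fun z hz => ?_⟩
  have h1 : Z ≤ closure ({z} : Set Y) := by
    rw [← hη.def]
    exact closure_minimal (Set.singleton_subset_iff.2 hz.mem_closure) isClosed_closure
  have h2 : closure ({z} : Set Y) = Z := le_antisymm (hZ.2 isIrreducible_singleton.closure h1) h1
  exact (show IsGenericPoint z Z from h2).eq hη

theorem mem_components_of_maximal {η : Y} (h : ∀ z : Y, z ⤳ η → z = η) :
    closure ({η} : Set Y) ∈ irreducibleComponents Y := by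
  refine ⟨isIrreducible_singleton.closure, fun Z hZ hle => ?_⟩
  obtain ⟨C, hC, hZC⟩ := exists_mem_irreducibleComponents_subset_of_isIrreducible Z hZ
  obtain ⟨c, hc, -⟩ := exists_generic hC
  have : c = η := h c (hc.specializes (hZC (hle (subset_closure rfl))))
  rw [← this, hc.def]
  exact hZC

theorem maximal_unique {y η₁ η₂ : Y} (hy : IsGeomUnibranch (Y.presheaf.stalk y)) (h₁ : η₁ ⤳ y)
    (h₂ : η₂ ⤳ y) (m₁ : ∀ z : Y, z ⤳ η₁ → z = η₁) (m₂ : ∀ z : Y, z ⤳ η₂ → z = η₂) : η₁ = η₂ := by
  obtain ⟨V, hV, hyV, -⟩ := exists_isAffineOpen_mem_and_subset (U := ⊤) (x := y) trivial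
  obtain ⟨p₀, hp₀, hp₀y, hp₀min, -⟩ := Unibranch.exists_guAt_of_affine hV hyV hy
  have key : ∀ z : Y, z ⤳ y → hV.fromSpec ⟨p₀, hp₀⟩ ⤳ z := fun z hz => by
    have hzV : z ∈ V := hz.mem_open V.2 hyV
    have h2 : (⟨p₀, hp₀⟩ : PrimeSpectrum Γ(Y, V)) ⤳ hV.primeIdealOf ⟨z, hzV⟩ :=
      (le_iff_specializes _ _).mp (hp₀min _ inferInstance (primeIdealOf_le hV hyV hzV hz))
    convert h2.map hV.fromSpec.continuous using 1
    exact (hV.fromSpec_primeIdealOf ⟨z, hzV⟩).symm
  rw [← m₁ _ (key _ h₁), ← m₂ _ (key _ h₂)]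

theorem component_unique {y : Y} (hy : IsGeomUnibranch (Y.presheaf.stalk y)) {Z₁ Z₂ : Set Y}
    (h₁ : Z₁ ∈ irreducibleComponents Y) (h₂ : Z₂ ∈ irreducibleComponents Y) (m₁ : y ∈ Z₁) (m₂ : y ∈ Z₂) :
    Z₁ = Z₂ := by
  obtain ⟨a, ha, hma⟩ := exists_generic h₁
  obtain ⟨b, hb, hmb⟩ := exists_generic h₂
  rw [← ha.def, ← hb.def, maximal_unique hy (ha.specializes m₁) (hb.specializes m₂) hma hmb]

theorem component_existsUnique {y : Y} (hy : IsGeomUnibranch (Y.presheaf.stalk y)) :
    ∃! Z, Z ∈ irreducibleComponents Y ∧ y ∈ Z :=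
  ⟨irreducibleComponent y, ⟨irreducibleComponent_mem_irreducibleComponents y, mem_irreducibleComponent⟩,
    fun _ h => component_unique hy h.1 (irreducibleComponent_mem_irreducibleComponents y) h.2 mem_irreducibleComponent⟩

theorem component_isOpen (hY : ∀ y : Y, IsGeomUnibranch (Y.presheaf.stalk y))
    (hfin : ∀ y : Y, ∃ U : Y.Opens, y ∈ U ∧ (irreducibleComponents ↥U).Finite)
    {Z : Set Y} (hZ : Z ∈ irreducibleComponents Y) : IsOpen Z := by
  obtain ⟨η, hη, hmax⟩ := exists_generic hZ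
  rw [isOpen_iff_forall_mem_open]
  intro y hy
  obtain ⟨V₀, hyV, hV⟩ := Unibranch.exists_opens_forall_specializes (hY y) (hη.specializes hy) hmax (hfin y)
  exact ⟨V₀, fun z hz => hη.def ▸ (hV z hz).mem_closure, V₀.2, hyV⟩

/-- A connected scheme with geometrically unibranch local rings and locally finitely many components is
irreducible. -/
theorem irreducibleSpace_of_connected [ConnectedSpace Y] (hY : ∀ y : Y, IsGeomUnibranch (Y.presheaf.stalk y))
    (hfin : ∀ y : Y, ∃ U : Y.Opens, y ∈ U ∧ (irreducibleComponents ↥U).Finite) : IrreducibleSpace Y := by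
  obtain ⟨y⟩ := (inferInstance : Nonempty Y)
  have hZ := irreducibleComponent_mem_irreducibleComponents y
  have : irreducibleComponent y = Set.univ :=
    IsClopen.eq_univ ⟨isClosed_irreducibleComponent, component_isOpen hY hfin hZ⟩ ⟨y, mem_irreducibleComponent⟩
  refine (irreducibleSpace_def Y).2 ?_
  rw [Set.top_eq_univ, ← this]
  exact isIrreducible_irreducibleComponent

/-- Local rings of a scheme étale over one with geometrically unibranch local rings. -/
theorem isGeomUnibranch_stalk_of_etale {X : Scheme.{u}} (f : X ⟶ Y) [Etale f] (x : X)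
    (hY : IsGeomUnibranch (Y.presheaf.stalk (f x))) : IsGeomUnibranch (X.presheaf.stalk x) := by
  obtain ⟨V, hV, U, hU, hxU, -, e⟩ := exists_affine_chart f x ⊤ trivial
  have het : (f.appLE V U e).hom.Etale := f.etale_appLE hV hU e
  letI := (f.appLE V U e).hom.toAlgebra
  haveI : Algebra.Etale Γ(Y, V) Γ(X, U) := het
  set q := (hU.primeIdealOf ⟨x, hxU⟩).asIdeal
  set p := (hV.primeIdealOf ⟨f x, e hxU⟩).asIdeal
  haveI hlo : q.LiesOver p :=
    ⟨(congrArg PrimeSpectrum.asIdeal (IsAffineOpen.comap_primeIdealOf_appLE V hV U hU e hxU)).symm⟩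
  exact (stalk_localization U hU x hxU).2.2
    (isGeomUnibranch_atPrime_of_etale p q ((stalk_localization V hV _ _).2.1 hY))

theorem maximal_over_generic {X : Scheme.{u}} (f : X ⟶ Y) [IrreducibleSpace Y] [LocallyQuasiFinite f]
    {x : X} (hx : f x = genericPoint Y) : ∀ z : X, z ⤳ x → z = x := by
  intro z hz
  have hfz : f z = genericPoint Y :=
    ((hx ▸ hz.map f.continuous : f z ⤳ genericPoint Y).antisymm
      ((genericPoint_spec Y).specializes trivial)).eq
  haveI := (f.isDiscrete_preimage_singleton (genericPoint Y)).to_subtype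
  have := (Topology.IsInducing.subtypeVal.specializes_iff (x := (⟨z, hfz⟩ : f ⁻¹' {genericPoint Y}))
    (y := ⟨x, hx⟩)).1 hz
  exact congrArg Subtype.val this.eq

theorem finite_components_of_etale {X : Scheme.{u}} (f : X ⟶ Y) [IrreducibleSpace Y] [Etale f] (x : X) :
    ∃ U : X.Opens, x ∈ U ∧ (irreducibleComponents ↥U).Finite := by
  haveI := locallyQuasiFinite_of_unramified f
  obtain ⟨U, hxU, hfin⟩ := finite_inter_fibre f x (genericPoint Y)
  refine ⟨U, hxU, ?_⟩
  let T : Set U := {t | f t.1 = genericPoint Y}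
  have hT : T.Finite := (hfin.preimage (f := Subtype.val) Subtype.val_injective.injOn).subset
    fun t ht => ⟨t.2, ht⟩
  refine (hT.image fun t => closure ({t} : Set U)).subset fun C hC => ?_
  obtain ⟨c, hc, hmax⟩ := exists_generic (Y := U.toScheme) hC
  haveI : Etale (U.ι ≫ f) := inferInstance
  obtain ⟨c', hc', hfc⟩ := exists_generization_of_etale (U.ι ≫ f) (x := c) ⊤ trivial
  exact ⟨c, hmax c' hc' ▸ hfc, hc.def⟩

end Groth.Agent.UnibranchEtale
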