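import Mathlib
import Groth.Prelude.Def_EGA4Misc
import Groth.Agent.UnibranchEtale.Birational
import Groth.Agent.UnibranchEtale.Components

/-!
Geometrically unibranch points of an integral birational morphism.
-/

set_option autoImplicit false
set_option linter.style.haveILetI false

universe u

open CategoryTheory AlgebraicGeometry CAlg2

namespace Groth.Agent.UnibranchEtale

variable {X Y : Scheme.{u}}

theorem ker_evaluation {U : X.Opens} (hU : IsAffineOpen U) (x : X) (hx : x ∈ U) :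
    RingHom.ker (X.evaluation U x hx).hom = (hU.primeIdealOf ⟨x, hx⟩).asIdeal := by
  letI := TopCat.Presheaf.algebra_section_stalk X.presheaf (⟨x, hx⟩ : U)
  haveI := hU.isLocalization_stalk ⟨x, hx⟩
  rw [← IsLocalization.AtPrime.under_maximalIdeal (X.presheaf.stalk x) (hU.primeIdealOf ⟨x, hx⟩).asIdeal]
  ext r
  change (X.residue x) ((X.presheaf.germ U x hx) r) = 0 ↔ _
  exact Ideal.Quotient.eq_zero_iff_mem

theorem exists_evaluation_div {U : X.Opens} (hU : IsAffineOpen U) (x : X) (hx : x ∈ U)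
    (c : X.residueField x) : ∃ a s : Γ(X, U), s ∉ (hU.primeIdealOf ⟨x, hx⟩).asIdeal ∧
      (X.evaluation U x hx s) * c = X.evaluation U x hx a := by
  letI := TopCat.Presheaf.algebra_section_stalk X.presheaf (⟨x, hx⟩ : U)
  haveI := hU.isLocalization_stalk ⟨x, hx⟩
  obtain ⟨t, rfl⟩ := X.residue_surjective x c
  obtain ⟨⟨a, ⟨s, hs⟩⟩, h⟩ := IsLocalization.surj (hU.primeIdealOf ⟨x, hx⟩).asIdeal.primeCompl t
  refine ⟨a, s, hs, ?_⟩
  change (X.residue x) (algebraMap _ (X.presheaf.stalk x) s) * X.residue x t =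
    X.residue x (algebraMap _ (X.presheaf.stalk x) a)
  rw [← map_mul, mul_comm]
  exact congrArg _ h

variable (f : X ⟶ Y)

theorem image_eq_iff_comap [IsAffineHom f] {V : Y.Opens} (hV : IsAffineOpen V) {y : Y} (hy : y ∈ V)
    {x : X} (hx : x ∈ f ⁻¹ᵁ V) :
    f x = y ↔ ((hV.preimage f).primeIdealOf ⟨x, hx⟩).asIdeal.comap (f.app V).hom =
      (hV.primeIdealOf ⟨y, hy⟩).asIdeal := by
  have h := congrArg PrimeSpectrum.asIdeal
    (IsAffineOpen.comap_primeIdealOf_appLE V hV (f ⁻¹ᵁ V) (hV.preimage f) le_rfl hx)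
  rw [← Scheme.Hom.app_eq_appLE] at h
  constructor
  · rintro rfl
    exact h
  · intro h'
    have h1 : hV.fromSpec (hV.primeIdealOf ⟨f x, hx⟩) = hV.fromSpec (hV.primeIdealOf ⟨y, hy⟩) :=
      congrArg hV.fromSpec (PrimeSpectrum.ext (h.symm.trans h'))
    rwa [hV.fromSpec_primeIdealOf, hV.fromSpec_primeIdealOf] at h1

theorem exists_primeIdealOf_eq {U : X.Opens} (hU : IsAffineOpen U) (Q : Ideal Γ(X, U)) [Q.IsPrime] :
    ∃ (x : X) (hx : x ∈ U), (hU.primeIdealOf ⟨x, hx⟩).asIdeal = Q := by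
  refine ⟨hU.fromSpec ⟨Q, inferInstance⟩, hU.range_fromSpec.le ⟨_, rfl⟩, ?_⟩
  exact congrArg PrimeSpectrum.asIdeal
    (hU.fromSpec.isOpenEmbedding.injective (hU.fromSpec_primeIdealOf _))

theorem eq_of_primeIdealOf_eq {U : X.Opens} (hU : IsAffineOpen U) {x x' : X} (hx : x ∈ U) (hx' : x' ∈ U)
    (h : (hU.primeIdealOf ⟨x, hx⟩).asIdeal = (hU.primeIdealOf ⟨x', hx'⟩).asIdeal) : x = x' := by
  have h1 : hU.fromSpec (hU.primeIdealOf ⟨x, hx⟩) = hU.fromSpec (hU.primeIdealOf ⟨x', hx'⟩) :=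
    congrArg hU.fromSpec (PrimeSpectrum.ext h)
  rwa [hU.fromSpec_primeIdealOf, hU.fromSpec_primeIdealOf] at h1

theorem specializes_of_primeIdealOf_le {U : X.Opens} (hU : IsAffineOpen U) {x x' : X} (hx : x ∈ U)
    (hx' : x' ∈ U) (h : (hU.primeIdealOf ⟨x', hx'⟩).asIdeal ≤ (hU.primeIdealOf ⟨x, hx⟩).asIdeal) :
    x' ⤳ x := by
  have := ((PrimeSpectrum.le_iff_specializes (hU.primeIdealOf ⟨x', hx'⟩) (hU.primeIdealOf ⟨x, hx⟩)).1 h).map
    hU.fromSpec.continuous
  rwa [hU.fromSpec_primeIdealOf, hU.fromSpec_primeIdealOf] at this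

/-- Radicial at a point in terms of rings. -/
theorem radOver_iff_isRadicialAt [IsAffineHom f] {V : Y.Opens} (hV : IsAffineOpen V) {y : Y} (hy : y ∈ V) :
    letI := (f.app V).hom.toAlgebra
    Unibranch.RadOver Γ(Y, V) Γ(X, f ⁻¹ᵁ V) (hV.primeIdealOf ⟨y, hy⟩).asIdeal ↔ RadPt.IsRadicialAt f y := by
  letI := (f.app V).hom.toAlgebra
  set hU := hV.preimage f
  set p := (hV.primeIdealOf ⟨y, hy⟩).asIdeal with hp
  change Unibranch.RadOver _ _ p ↔ _
  constructor
  · intro h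
    have huniq := h.uniqueOver
    obtain ⟨e, he, h⟩ := h
    have hmem : ∀ x, f x = y → x ∈ f ⁻¹ᵁ V := fun x hx => show f x ∈ V from hx ▸ hy
    refine ⟨fun x x' hx hx' => eq_of_primeIdealOf_eq hU (hmem x hx) (hmem x' hx')
      (huniq _ _ inferInstance inferInstance ((image_eq_iff_comap f hV hy (hmem x hx)).1 hx)
        ((image_eq_iff_comap f hV hy (hmem x' hx')).1 hx')), fun x hx => ?_⟩
    subst hx
    have hxU : x ∈ f ⁻¹ᵁ V := hy
    have hker : RingHom.ker (Y.evaluation V (f x) hy).hom = p := ker_evaluation hV _ hy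
    haveI : ExpChar (Y.residueField (f x)) e := by
      haveI := he
      exact expChar_of_injective_ringHom
        (f := Ideal.Quotient.lift p (Y.evaluation V (f x) hy).hom fun a ha => hker.ge ha)
        (RingHom.lift_injective_of_ker_le_ideal p _ hker.le) e
    letI := (f.residueFieldMap x).hom.toAlgebra
    change IsPurelyInseparable (Y.residueField (f x)) (X.residueField x)
    rw [isPurelyInseparable_iff_pow_mem (Y.residueField (f x)) e]
    have key : ∀ b, ∃ (n : ℕ) (c : Y.residueField (f x)),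
        algebraMap _ (X.residueField x) c = X.evaluation (f ⁻¹ᵁ V) x hxU b ^ e ^ n := by
      intro b
      obtain ⟨n, s, a, hs, h⟩ := h b
      have h1 := h _ inferInstance ((image_eq_iff_comap f hV hy hxU).1 rfl)
      rw [← ker_evaluation hU x hxU, RingHom.mem_ker, map_sub, map_mul, map_pow, sub_eq_zero] at h1
      have hs0 : Y.evaluation V (f x) hy s ≠ 0 := fun h' => hs (hker ▸ RingHom.mem_ker.2 h')
      refine ⟨n, Y.evaluation V (f x) hy a / Y.evaluation V (f x) hy s, ?_⟩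
      rw [map_div₀, div_eq_iff ((map_ne_zero _).2 hs0), mul_comm]
      change f.residueFieldMap x (Y.evaluation V (f x) hy a) =
        f.residueFieldMap x (Y.evaluation V (f x) hy s) * _
      rw [Scheme.evaluation_naturality_apply, Scheme.evaluation_naturality_apply]
      exact h1.symm
    intro c
    obtain ⟨b, t, ht, hc⟩ := exists_evaluation_div hU x hxU c
    obtain ⟨n, u, hu⟩ := key b
    obtain ⟨m, v, hv⟩ := key t
    have ht0 : X.evaluation (f ⁻¹ᵁ V) x hxU t ≠ 0 :=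
      fun h' => ht (ker_evaluation hU x hxU ▸ RingHom.mem_ker.2 h')
    refine ⟨n + m, u ^ e ^ m / v ^ e ^ n, ?_⟩
    rw [map_div₀, map_pow, map_pow, hu, hv, ← pow_mul, ← pow_mul, ← pow_add, ← pow_add, Nat.add_comm m n,
      eq_comm, eq_div_iff (pow_ne_zero _ ht0), ← mul_pow, mul_comm, hc]
  · rintro ⟨huniq, hpi⟩
    refine ⟨ringExpChar (Γ(Y, V) ⧸ p), inferInstance, fun z => ?_⟩
    by_cases hex : ∃ x, f x = y
    · obtain ⟨x, rfl⟩ := hex
      have hxU : x ∈ f ⁻¹ᵁ V := hy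
      have hker : RingHom.ker (Y.evaluation V (f x) hy).hom = p := ker_evaluation hV _ hy
      haveI : ExpChar (Y.residueField (f x)) (ringExpChar (Γ(Y, V) ⧸ p)) :=
        expChar_of_injective_ringHom
          (f := Ideal.Quotient.lift p (Y.evaluation V (f x) hy).hom fun a ha => hker.ge ha)
          (RingHom.lift_injective_of_ker_le_ideal p _ hker.le) _
      have hx := hpi x rfl
      letI := (f.residueFieldMap x).hom.toAlgebra
      haveI : IsPurelyInseparable (Y.residueField (f x)) (X.residueField x) := hx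
      obtain ⟨n, c, hc⟩ := IsPurelyInseparable.pow_mem (Y.residueField (f x))
        (ringExpChar (Γ(Y, V) ⧸ p)) (X.evaluation (f ⁻¹ᵁ V) x hxU z)
      obtain ⟨a, s, hs, hcs⟩ := exists_evaluation_div hV (f x) hy c
      refine ⟨n, s, a, hs, fun Q hQ hQe => ?_⟩
      haveI := hQ
      obtain ⟨x', hx', rfl⟩ := exists_primeIdealOf_eq hU Q
      obtain rfl := huniq x' x ((image_eq_iff_comap f hV hy hx').2 hQe) rfl
      rw [← ker_evaluation hU x' hx', RingHom.mem_ker, map_sub, map_mul, map_pow, ← hc, sub_eq_zero]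
      have := congrArg (f.residueFieldMap x') hcs
      rw [map_mul, Scheme.evaluation_naturality_apply, Scheme.evaluation_naturality_apply] at this
      exact this
    · refine ⟨0, 1, 0, fun h => Ideal.IsPrime.ne_top inferInstance ((Ideal.eq_top_iff_one p).2 h), fun Q hQ hQe => ?_⟩
      haveI := hQ
      obtain ⟨x', hx', rfl⟩ := exists_primeIdealOf_eq hU Q
      exact absurd ⟨x', (image_eq_iff_comap f hV hy hx').2 hQe⟩ hex

theorem exists_maximal_specializes (z : X) : ∃ η : X, η ⤳ z ∧ η ∈ genericPoints X := by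
  obtain ⟨η, hη, -⟩ := exists_generic (irreducibleComponent_mem_irreducibleComponents z)
  refine ⟨η, hη.specializes mem_irreducibleComponent, ?_⟩
  change closure {η} ∈ irreducibleComponents X
  rw [hη.def]
  exact irreducibleComponent_mem_irreducibleComponents z

theorem maximal_of_mem_genericPoints {η : X} (h : η ∈ genericPoints X) : ∀ z : X, z ⤳ η → z = η := by
  obtain ⟨η', hη', hm⟩ := exists_generic h
  obtain rfl : η = η' := (show IsGenericPoint η (closure {η}) from rfl).eq hη'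
  exact hm

/-- Geometric unibranchness at `y` when a single birational component lies over it. -/
theorem isGeomUnibranch_iff_core [IsIntegralHom f] {y η : Y} {x ξ : X} (hx : f x = y) (hξ : f ξ = η)
    (hsurj : Function.Surjective (f.residueFieldMap ξ).hom) (hηy : η ⤳ y) (hη : ∀ z, z ⤳ y → η ⤳ z)
    (hgen : ∀ x', f x' = y → ∀ z, z ⤳ x' → ξ ⤳ z) :
    IsGeomUnibranch (Y.presheaf.stalk y) ↔
      RadPt.IsRadicialAt f y ∧ IsGeomUnibranch (X.presheaf.stalk x) := by
  obtain ⟨V, hV, hy, -⟩ := exists_isAffineOpen_mem_and_subset (U := ⊤) (x := y) trivial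
  have hU := hV.preimage f
  have hxU : x ∈ f ⁻¹ᵁ V := show f x ∈ V from hx ▸ hy
  have hξx : ξ ⤳ x := hgen x hx x specializes_rfl
  have hξU : ξ ∈ f ⁻¹ᵁ V := hξx.mem_open (f ⁻¹ᵁ V).2 hxU
  subst hξ
  have hηV : f ξ ∈ V := hξU
  letI := (f.app V).hom.toAlgebra
  haveI : Algebra.IsIntegral Γ(Y, V) Γ(X, f ⁻¹ᵁ V) :=
    ⟨f.isIntegral_app V hV⟩
  set q₀ := (hU.primeIdealOf ⟨ξ, hξU⟩).asIdeal with hq₀
  set p₀ := (hV.primeIdealOf ⟨f ξ, hηV⟩).asIdeal with hp₀
  haveI : q₀.LiesOver p₀ := ⟨((image_eq_iff_comap f hV hηV hξU).1 rfl).symm⟩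
  rw [(stalk_localization V hV y hy).2, (stalk_localization (f ⁻¹ᵁ V) hU x hxU).2,
    ← radOver_iff_isRadicialAt f hV hy]
  refine isGeomUnibranch_iff_of_minimal _ p₀ _ q₀ ((image_eq_iff_comap f hV hy hxU).1 hx)
    (primeIdealOf_le hV hy hηV hηy) (fun p' hp' hle => ?_) (fun Q hQ hQe => ?_) (fun q' hq' hle => ?_) ?_
  · haveI := hp'
    obtain ⟨z, hz, rfl⟩ := exists_primeIdealOf_eq hV p'
    exact primeIdealOf_le hV hz hηV (hη z (specializes_of_primeIdealOf_le hV hy hz hle))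
  · haveI := hQ
    obtain ⟨z, hz, rfl⟩ := exists_primeIdealOf_eq hU Q
    exact primeIdealOf_le hU hz hξU (hgen z ((image_eq_iff_comap f hV hy hz).2 hQe) z specializes_rfl)
  · haveI := hq'
    obtain ⟨z, hz, rfl⟩ := exists_primeIdealOf_eq hU q'
    exact primeIdealOf_le hU hz hξU (hgen x hx z (specializes_of_primeIdealOf_le hU hxU hz hle))
  · intro b
    obtain ⟨c, hc⟩ := hsurj (X.evaluation (f ⁻¹ᵁ V) ξ hξU b)
    obtain ⟨a, s, hs, hcs⟩ := exists_evaluation_div hV (f ξ) hηV c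
    refine ⟨s, a, hs, ?_⟩
    rw [hq₀, ← ker_evaluation hU ξ hξU, RingHom.mem_ker, map_sub, map_mul, sub_eq_zero]
    have := congrArg (f.residueFieldMap ξ) hcs
    rw [map_mul, Scheme.evaluation_naturality_apply, Scheme.evaluation_naturality_apply] at this
    rw [← hc]
    exact this

theorem isGeomUnibranch_iff_isRadicialAt [IsIntegralHom f] (hf : RadPt.IsBirational f) (y : Y) :
    IsGeomUnibranch (Y.presheaf.stalk y) ↔
      (RadPt.IsRadicialAt f y ∧ ∀ x : X, f x = y → IsGeomUnibranch (X.presheaf.stalk x)) := by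
  obtain ⟨η, hηy, hη⟩ := exists_maximal_specializes y
  obtain ⟨ξ, hξ, hfξ⟩ := hf.1.surjOn hη
  have hlift : ∀ η' ∈ genericPoints Y, η' ⤳ y → ∀ ξ', f ξ' = η' → ∃ x, ξ' ⤳ x ∧ f x = y := by
    intro η' _ h ξ' hξ'
    obtain ⟨x, hx, hfx⟩ := h.mem_closed (f.isClosedMap (closure ({ξ'} : Set X)) isClosed_closure)
      ⟨ξ', subset_closure rfl, hξ'⟩
    exact ⟨x, specializes_iff_mem_closure.2 hx, hfx⟩
  obtain ⟨x, -, hx⟩ := hlift η hη hηy ξ hfξ
  have hsurj := ((hf.2 η hη).2 ξ hfξ).2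
  constructor
  · intro hy
    have huniq : ∀ η' ∈ genericPoints Y, η' ⤳ y → η' = η := fun η' h' h'' =>
      maximal_unique hy h'' hηy (maximal_of_mem_genericPoints h') (maximal_of_mem_genericPoints hη)
    have hgenY : ∀ z, z ⤳ y → η ⤳ z := fun z hz => by
      obtain ⟨η', h1, h2⟩ := exists_maximal_specializes z
      rwa [← huniq η' h2 (h1.trans hz)]
    have hgen : ∀ x', f x' = y → ∀ z, z ⤳ x' → ξ ⤳ z := fun x' hx' z hz => by
      obtain ⟨ξ', h1, h2⟩ := exists_maximal_specializes z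
      have h3 : f ξ' = η := huniq _ (hf.1.mapsTo h2) (hx' ▸ (h1.trans hz).map f.continuous)
      rwa [← (hf.2 η hη).1 ξ' ξ h3 hfξ]
    refine ⟨((isGeomUnibranch_iff_core f hx hfξ hsurj hηy hgenY hgen).1 hy).1, fun x' hx' => ?_⟩
    exact ((isGeomUnibranch_iff_core f hx' hfξ hsurj hηy hgenY hgen).1 hy).2
  · rintro ⟨hrad, hX⟩
    obtain ⟨x₁, hx₁, hfx₁⟩ := hlift η hη hηy ξ hfξ
    have hgen0 : ∀ ξ' ∈ genericPoints X, ξ' ⤳ x → ξ' = ξ := fun ξ' h' h'' =>
      maximal_unique (hX x hx) h'' (hrad.1 x₁ x hfx₁ hx ▸ hx₁) (maximal_of_mem_genericPoints h')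
        (maximal_of_mem_genericPoints hξ)
    have hgenY : ∀ z, z ⤳ y → η ⤳ z := fun z hz => by
      obtain ⟨η', h1, h2⟩ := exists_maximal_specializes z
      obtain ⟨ξ', hξ', rfl⟩ := hf.1.surjOn h2
      obtain ⟨x₂, hx₂, hfx₂⟩ := hlift _ h2 (h1.trans hz) ξ' rfl
      rwa [hgen0 ξ' hξ' (hrad.1 x₂ x hfx₂ hx ▸ hx₂), hfξ] at h1
    have hgen : ∀ x', f x' = y → ∀ z, z ⤳ x' → ξ ⤳ z := fun x' hx' z hz => by
      obtain ⟨ξ', h1, h2⟩ := exists_maximal_specializes z
      rwa [← hgen0 ξ' h2 (hrad.1 x' x hx' hx ▸ (h1.trans hz))]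
    exact (isGeomUnibranch_iff_core f hx hfξ hsurj hηy hgenY hgen).2 ⟨hrad, hX x hx⟩

end Groth.Agent.UnibranchEtale
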