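import Mathlib
import Groth.Agent.Hensel.EnvelopeStage
import Groth.Agent.Hensel.HenselizationNormal
import Groth.Agent.UnramLib.FlatUnram

/-!
Minimal primes of a (strict) henselisation are seen on étale neighbourhoods.
-/

set_option autoImplicit false
set_option linter.style.haveILetI false

universe u

open Polynomial IsLocalRing

namespace Groth.Agent.UnibranchEtale

variable {A : Type u} [CommRing A] (p : Ideal A) [p.IsPrime] (R : Type u) [CommRing R] [Algebra A R]
  [IsLocalization.AtPrime R p]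

/-- Finitely many fractions have a common denominator. -/
theorem exists_common_denominator (F : Finset R) :
    ∃ s : A, s ∉ p ∧ ∀ z ∈ F, ∃ a : A, z * algebraMap A R s = algebraMap A R a := by
  obtain ⟨⟨s, hs⟩, h⟩ := IsLocalization.exist_integer_multiples_of_finset p.primeCompl F
  refine ⟨s, hs, fun z hz => ?_⟩
  obtain ⟨a, ha⟩ := h z hz
  refine ⟨a, ?_⟩
  rw [ha]
  exact (mul_comm _ _).trans (Algebra.smul_def _ _).symm

/-- The map from `A_s` to the local ring. -/
noncomputable def awayLift {s : A} (hs : s ∉ p) : Localization.Away s →+* R :=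
  IsLocalization.Away.lift s (g := algebraMap A R) (IsLocalization.map_units R (⟨s, hs⟩ : p.primeCompl))

theorem awayLift_algebraMap {s : A} (hs : s ∉ p) (a : A) :
    awayLift p R hs (algebraMap A _ a) = algebraMap A R a :=
  IsLocalization.Away.lift_eq s _ a

theorem mem_range_awayLift {s : A} (hs : s ∉ p) {z : R} {a : A}
    (h : z * algebraMap A R s = algebraMap A R a) : z ∈ Set.range (awayLift p R hs) := by
  obtain ⟨v, hv⟩ := (IsLocalization.Away.algebraMap_isUnit (S := Localization.Away s) s).exists_right_inv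
  refine ⟨algebraMap A _ a * v, ?_⟩
  have hu : IsUnit (algebraMap A R s) := IsLocalization.map_units R (⟨s, hs⟩ : p.primeCompl)
  refine hu.mul_left_injective ?_
  change awayLift p R hs _ * algebraMap A R s = z * algebraMap A R s
  rw [h, ← awayLift_algebraMap p R hs s, ← map_mul, mul_assoc, mul_comm v, hv, mul_one, awayLift_algebraMap]

/-- A standard étale pair over a local ring comes from a basic open. -/
theorem exists_pair_spread (P : StandardEtalePair R) :
    ∃ (s : A) (hs : s ∉ p) (P₀ : StandardEtalePair (Localization.Away s)),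
      P₀.f.map (awayLift p R hs) = P.f ∧ P₀.g.map (awayLift p R hs) = P.g := by
  classical
  obtain ⟨p₁, p₂, n, he⟩ := P.cond
  let F : Finset R := P.f.support.image P.f.coeff ∪ P.g.support.image P.g.coeff ∪
    p₁.support.image p₁.coeff ∪ p₂.support.image p₂.coeff
  obtain ⟨s, hs, hF⟩ := exists_common_denominator p R F
  have hl : ∀ Q : R[X], Q.support.image Q.coeff ⊆ F → Q ∈ Polynomial.lifts (awayLift p R hs) := by
    intro Q hQ
    rw [Polynomial.lifts_iff_coeff_lifts]
    intro i
    by_cases hi : i ∈ Q.support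
    · obtain ⟨a, ha⟩ := hF _ (hQ (Finset.mem_image_of_mem _ hi))
      exact mem_range_awayLift p R hs ha
    · rw [Polynomial.notMem_support_iff.1 hi]
      exact ⟨0, map_zero _⟩
  obtain ⟨f₁, hf₁, -, hf₁m⟩ := Polynomial.lifts_and_natDegree_eq_and_monic
    (hl P.f (by intro x hx; simp [F, hx])) P.monic_f
  obtain ⟨g₁, hg₁⟩ := (Polynomial.mem_lifts _).1 (hl P.g (by intro x hx; simp [F, hx]))
  obtain ⟨q₁, hq₁⟩ := (Polynomial.mem_lifts _).1 (hl p₁ (by intro x hx; simp [F, hx]))
  obtain ⟨q₂, hq₂⟩ := (Polynomial.mem_lifts _).1 (hl p₂ (by intro x hx; simp [F, hx]))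
  set E := derivative f₁ * q₁ + f₁ * q₂ - g₁ ^ n with hE
  have hE0 : E.map (awayLift p R hs) = 0 := by
    rw [hE, Polynomial.map_sub, Polynomial.map_add, Polynomial.map_mul, Polynomial.map_mul,
      Polynomial.map_pow, ← Polynomial.derivative_map, hf₁, hg₁, hq₁, hq₂, he, sub_self]
  have hkill : ∀ i, ∃ t : A, t ∉ p ∧ algebraMap A (Localization.Away s) t * E.coeff i = 0 := by
    intro i
    obtain ⟨⟨a, ⟨_, m, rfl⟩⟩, ha⟩ := IsLocalization.surj (Submonoid.powers s) (E.coeff i)
    dsimp only at ha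
    have h0 : algebraMap A R a = 0 := by
      rw [← awayLift_algebraMap p R hs, ← ha, map_mul, ← Polynomial.coeff_map, hE0, Polynomial.coeff_zero, zero_mul]
    obtain ⟨⟨t, ht⟩, hta⟩ := (IsLocalization.map_eq_zero_iff p.primeCompl R a).1 h0
    refine ⟨t, ht, (IsLocalization.map_units (Localization.Away s)
      (⟨s ^ m, m, rfl⟩ : Submonoid.powers s)).mul_left_eq_zero.1 ?_⟩
    rw [mul_assoc, ha, ← map_mul, hta, map_zero]
  choose t ht hti using hkill
  let T : A := ∏ i ∈ E.support, t i
  have hT : T ∉ p := fun h => by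
    obtain ⟨i, -, hi⟩ := (‹p.IsPrime›.prod_mem_iff).1 h
    exact ht i hi
  have hsT : s * T ∉ p := ‹p.IsPrime›.mul_notMem hs hT
  let θ : Localization.Away s →+* Localization.Away (s * T) :=
    IsLocalization.Away.lift s (g := algebraMap A _) (isUnit_of_dvd_unit (map_dvd _ (dvd_mul_right s T))
      (IsLocalization.Away.algebraMap_isUnit (s * T)))
  have hθ : ∀ a, θ (algebraMap A _ a) = algebraMap A _ a := fun a => IsLocalization.Away.lift_eq s _ a
  have hcomp : (awayLift p R hsT).comp θ = awayLift p R hs :=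
    IsLocalization.ringHom_ext (Submonoid.powers s) (RingHom.ext fun a => by
      simp only [RingHom.comp_apply, hθ, awayLift_algebraMap])
  have hEθ : E.map θ = 0 := by
    ext i
    rw [Polynomial.coeff_map, Polynomial.coeff_zero]
    by_cases hi : i ∈ E.support
    · have hu : IsUnit (algebraMap A (Localization.Away (s * T)) (t i)) :=
        isUnit_of_dvd_unit (map_dvd _ ((Finset.dvd_prod_of_mem t hi).trans (dvd_mul_left T s)))
          (IsLocalization.Away.algebraMap_isUnit (s * T))
      refine hu.mul_right_eq_zero.1 ?_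
      rw [← hθ, ← map_mul, hti, map_zero]
    · rw [Polynomial.notMem_support_iff.1 hi, map_zero]
  refine ⟨s * T, hsT, ⟨f₁.map θ, hf₁m.map θ, g₁.map θ, q₁.map θ, q₂.map θ, n, ?_⟩, ?_, ?_⟩
  · rw [Polynomial.derivative_map, ← Polynomial.map_mul, ← Polynomial.map_mul, ← Polynomial.map_add,
      ← Polynomial.map_pow, ← sub_eq_zero, ← Polynomial.map_sub, ← hE, hEθ]
  · rw [Polynomial.map_map, hcomp, hf₁]
  · rw [Polynomial.map_map, hcomp, hg₁]

/-- The standard étale algebra over the local ring is generated, up to units, by the spread one. -/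
theorem exists_spread (P : StandardEtalePair R) :
    ∃ (C : Type u) (_ : CommRing C) (_ : Algebra A C) (_ : Algebra.Etale A C) (_ : Algebra A P.Ring)
      (_ : IsScalarTower A R P.Ring) (α : C →ₐ[A] P.Ring),
      ∀ z, ∃ (c : C) (d : A), d ∉ p ∧ z * algebraMap A P.Ring d = α c := by
  obtain ⟨s, hs, P₀, hf, hg⟩ := exists_pair_spread p R P
  letI : Algebra (Localization.Away s) R := (awayLift p R hs).toAlgebra
  haveI : IsScalarTower A (Localization.Away s) R :=
    IsScalarTower.of_algebraMap_eq fun a => (awayLift_algebraMap p R hs a).symm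
  letI : Algebra (Localization.Away s) P.Ring := ((algebraMap R P.Ring).comp (awayLift p R hs)).toAlgebra
  haveI : IsScalarTower (Localization.Away s) R P.Ring := IsScalarTower.of_algebraMap_eq fun _ => rfl
  letI : Algebra A P.Ring := ((algebraMap R P.Ring).comp (algebraMap A R)).toAlgebra
  haveI : IsScalarTower A R P.Ring := IsScalarTower.of_algebraMap_eq fun _ => rfl
  haveI : IsScalarTower A (Localization.Away s) P.Ring := IsScalarTower.of_algebraMap_eq fun a => by
    change algebraMap R P.Ring (algebraMap A R a) = algebraMap R P.Ring (awayLift p R hs _)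
    rw [awayLift_algebraMap]
  have he : ∀ Q : (Localization.Away s)[X], aeval P.X Q = aeval P.X (Q.map (awayLift p R hs)) := fun Q =>
    (Polynomial.aeval_map_algebraMap R P.X Q).symm
  have hmap : P₀.HasMap P.X := ⟨by rw [he, hf]; exact P.hasMap_X.1, by rw [he, hg]; exact P.hasMap_X.2⟩
  letI : Algebra A P₀.Ring := ((algebraMap (Localization.Away s) P₀.Ring).comp (algebraMap A _)).toAlgebra
  haveI : IsScalarTower A (Localization.Away s) P₀.Ring := IsScalarTower.of_algebraMap_eq fun _ => rfl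
  haveI : Algebra.Etale A (Localization.Away s) := Algebra.Etale.of_isLocalizationAway s
  haveI : Algebra.Etale A P₀.Ring := Algebra.Etale.comp A (Localization.Away s) P₀.Ring
  let α := (P₀.lift P.X hmap).restrictScalars A
  refine ⟨P₀.Ring, inferInstance, inferInstance, inferInstance, inferInstance, inferInstance, α, ?_⟩
  let T : Set P.Ring := {z | ∃ (c : P₀.Ring) (d : A), d ∉ p ∧ z * algebraMap A P.Ring d = α c}
  have hadd : ∀ {x y}, x ∈ T → y ∈ T → x + y ∈ T := by
    rintro x y ⟨c, d, hd, hx⟩ ⟨c', d', hd', hy⟩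
    refine ⟨c * algebraMap A _ d' + c' * algebraMap A _ d, d * d', ‹p.IsPrime›.mul_notMem hd hd', ?_⟩
    rw [map_add, map_mul α, map_mul α, α.commutes, α.commutes, ← hx, ← hy, map_mul]
    ring
  have hmul : ∀ {x y}, x ∈ T → y ∈ T → x * y ∈ T := by
    rintro x y ⟨c, d, hd, hx⟩ ⟨c', d', hd', hy⟩
    refine ⟨c * c', d * d', ‹p.IsPrime›.mul_notMem hd hd', ?_⟩
    rw [map_mul α, ← hx, ← hy, map_mul]
    ring
  have h1 : (1 : A) ∉ p := fun h => ‹p.IsPrime›.ne_top ((Ideal.eq_top_iff_one p).2 h)
  have halg : ∀ r : R, algebraMap R P.Ring r ∈ T := by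
    intro r
    obtain ⟨⟨a, ⟨d, hd⟩⟩, h⟩ := IsLocalization.surj p.primeCompl r
    refine ⟨algebraMap A _ a, d, hd, ?_⟩
    rw [α.commutes, IsScalarTower.algebraMap_apply A R P.Ring, IsScalarTower.algebraMap_apply A R P.Ring, ← map_mul]
    exact congrArg _ h
  have hX : P.X ∈ T := ⟨P₀.X, 1, h1, by
    rw [map_one, mul_one]; exact (StandardEtalePair.lift_X _ _ hmap).symm⟩
  have hY : (↑P.hasMap_X.2.unit⁻¹ : P.Ring) ∈ T := by
    refine ⟨↑P₀.hasMap_X.2.unit⁻¹, 1, h1, ?_⟩
    rw [map_one, mul_one]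
    refine P.hasMap_X.2.mul_left_cancel ?_
    rw [IsUnit.mul_val_inv]
    have h2 : α (aeval P₀.X P₀.g) = aeval P.X P.g := by
      change P₀.lift P.X hmap (aeval P₀.X P₀.g) = _
      rw [← Polynomial.aeval_algHom_apply, StandardEtalePair.lift_X, he, hg]
    rw [← h2, ← map_mul, IsUnit.mul_val_inv, map_one]
  intro z
  change z ∈ T
  obtain ⟨q, rfl⟩ := Ideal.Quotient.mk_surjective z
  induction q using Polynomial.induction_on' with
  | add a b ha hb =>
    rw [map_add]
    exact hadd ha hb
  | monomial n a =>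
    rw [← Polynomial.C_mul_X_pow_eq_monomial, map_mul, map_pow, ← StandardEtalePair.inv_aeval_X_g]
    refine hmul ?_ ?_
    · induction a using Polynomial.induction_on' with
      | add a b ha hb => rw [map_add, map_add]; exact hadd ha hb
      | monomial m r =>
        rw [← Polynomial.C_mul_X_pow_eq_monomial, map_mul, map_mul, map_pow, map_pow]
        refine hmul (halg r) ?_
        induction m with
        | zero => exact ⟨1, 1, h1, by simp only [pow_zero, map_one, mul_one]; rfl⟩
        | succ m ih => rw [pow_succ]; exact hmul ih hX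
    · induction n with
      | zero => exact ⟨1, 1, h1, by simp only [pow_zero, map_one, mul_one]; rfl⟩
      | succ m ih => rw [pow_succ]; exact hmul ih hY

/-- The contraction of a minimal prime along a flat map is minimal. -/
theorem comap_mem_minimalPrimes {C S : Type u} [CommRing C] [CommRing S] [Algebra C S] [Module.Flat C S]
    {P : Ideal S} (hP : P ∈ minimalPrimes S) : P.comap (algebraMap C S) ∈ minimalPrimes C := by
  haveI := hP.1.1
  refine ⟨⟨Ideal.IsPrime.comap _, bot_le⟩, fun r hr hle => ?_⟩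
  haveI := hr.1
  haveI : P.LiesOver (P.comap (algebraMap C S)) := ⟨rfl⟩
  obtain ⟨Q, hQP, hQ, hQr⟩ := Ideal.exists_ideal_le_liesOver_of_le (S := S) P (q := P.comap (algebraMap C S)) hle
  rw [hQr.over]
  exact Ideal.comap_mono (hP.2 ⟨hQ, bot_le⟩ hQP)

/-- Two minimal primes of a henselian envelope are separated on an étale neighbourhood. -/
theorem exists_nhd_two_minimal [IsLocalRing R] (K : Type u) [Field K] [Algebra R K] [Algebra A K]
    [IsScalarTower A R K] (S : Type u) [CommRing S] [IsLocalRing S] [Algebra R S] [Module.Flat R S]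
    (π : S →ₐ[R] K) (hπ : ∀ z, π z = 0 ↔ z ∈ maximalIdeal S) (ι : Hensel.EnvTop R K →ₐ[R] S)
    (hι : ∀ x, π (ι x) = Hensel.envEv R K x) (hloc : ∀ z, ∃ x t, IsUnit (ι t) ∧ z * ι t = ι x)
    (hmax : (maximalIdeal S).comap (algebraMap R S) = maximalIdeal R)
    {P₁ P₂ : Ideal S} (h₁ : P₁ ∈ minimalPrimes S) (h₂ : P₂ ∈ minimalPrimes S) (hne : P₁ ≠ P₂) :
    ∃ (C : Type u) (_ : CommRing C) (_ : Algebra A C) (_ : Algebra.Etale A C) (q : Ideal C) (_ : q.IsPrime),
      q.comap (algebraMap A C) = p ∧ (∃ θ : C →ₐ[A] K, RingHom.ker θ.toRingHom = q) ∧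
      ∃ r₁ r₂ : Ideal C, r₁ ∈ minimalPrimes C ∧ r₂ ∈ minimalPrimes C ∧ r₁ ≠ r₂ ∧ r₁ ≤ q ∧ r₂ ≤ q := by
  haveI := h₁.1.1
  haveI := h₂.1.1
  obtain ⟨a, ha₁, ha₂⟩ : ∃ a, a ∈ P₁ ∧ a ∉ P₂ := by
    by_contra h
    push Not at h
    exact hne (le_antisymm h (h₂.2 ⟨h₁.1.1, bot_le⟩ h))
  obtain ⟨P, T, _, _, _, ψ, χ, h1, h2, hinj, hz⟩ := Hensel.exists_local_stage R K π hπ ι hι hloc ![a]
  obtain ⟨y, hy⟩ := hz 0
  simp only [Matrix.cons_val_fin_one] at hy
  obtain ⟨b, c, hc, hbc⟩ := h1 y
  have hb : a * χ (ψ c) = χ (ψ b) := by rw [← hy, ← map_mul, hbc]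
  obtain ⟨C, _, _, _, _, _, α, hα⟩ := exists_spread p R P
  obtain ⟨c₀, d, hd, hc₀⟩ := hα b
  letI : Algebra A S := ((algebraMap R S).comp (algebraMap A R)).toAlgebra
  haveI : IsScalarTower A R S := IsScalarTower.of_algebraMap_eq fun _ => rfl
  let φ : C →ₐ[A] S := ((χ.comp ψ).restrictScalars A).comp α
  haveI : Module.Flat A R := IsLocalization.flat R p.primeCompl
  haveI : Module.Flat A S := Module.Flat.trans A R S
  letI : Algebra C S := φ.toRingHom.toAlgebra
  haveI : IsScalarTower A C S := IsScalarTower.of_algebraMap_eq fun r => (φ.commutes r).symm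
  haveI : Module.Flat C S := UnramLib.flat_of_formallyUnramified A C S
  have hu : IsUnit (algebraMap A S d) := by
    rw [IsScalarTower.algebraMap_apply A R S]
    exact (IsLocalization.map_units R (⟨d, hd⟩ : p.primeCompl)).map _
  have hcS : IsUnit (χ (ψ c)) := hc.map χ
  have hφc : φ c₀ = a * χ (ψ c) * algebraMap A S d := by
    change χ (ψ (α c₀)) = _
    rw [← hc₀, map_mul, map_mul, ← hb, IsScalarTower.algebraMap_apply A R P.Ring, AlgHom.commutes,
      AlgHom.commutes, ← IsScalarTower.algebraMap_apply A R S]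
  refine ⟨C, inferInstance, inferInstance, inferInstance, (maximalIdeal S).comap φ.toRingHom,
    Ideal.IsPrime.comap _, ?_, ⟨(π.restrictScalars A).comp φ, ?_⟩, P₁.comap φ.toRingHom, P₂.comap φ.toRingHom,
    comap_mem_minimalPrimes h₁, comap_mem_minimalPrimes h₂, ?_, Ideal.comap_mono (le_maximalIdeal h₁.1.1.ne_top),
    Ideal.comap_mono (le_maximalIdeal h₂.1.1.ne_top)⟩
  · rw [Ideal.comap_comap, show φ.toRingHom.comp (algebraMap A C) = algebraMap A S from φ.comp_algebraMap, IsScalarTower.algebraMap_eq A R S, ← Ideal.comap_comap, hmax]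
    exact IsLocalization.AtPrime.comap_maximalIdeal R p
  · ext x
    rw [RingHom.mem_ker, Ideal.mem_comap, ← hπ]
    rfl
  · intro h
    have hm : c₀ ∈ P₁.comap φ.toRingHom := by
      rw [Ideal.mem_comap]
      change φ c₀ ∈ P₁
      rw [hφc]
      exact P₁.mul_mem_right _ (P₁.mul_mem_right _ ha₁)
    rw [h, Ideal.mem_comap] at hm
    change φ c₀ ∈ P₂ at hm
    rw [hφc, mul_assoc, Ideal.mul_unit_mem_iff_mem _ (hcS.mul hu)] at hm
    exact ha₂ hm

end Groth.Agent.UnibranchEtale
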