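import Mathlib
import Groth.Prelude.Def_Hens2
import Groth.Prelude.Def_CAlgX
import Groth.Agent.S2135
import Groth.Agent.S2052
import Groth.Agent.Hensel.Henselization
import Groth.Agent.UnibranchEtale.Components
import Groth.Agent.UnibranchEtale.Neighbourhood

/-!
Branches and irreducible components of étale neighbourhoods.
-/

set_option autoImplicit false
set_option linter.style.haveILetI false

universe u

open CategoryTheory AlgebraicGeometry TopologicalSpace

namespace Groth.Agent.UnibranchEtale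

theorem hasUniqueMinimalPrime_of_nilradical (A : Type u) [CommRing A] (h : (nilradical A).IsPrime) :
    CAlgX.HasUniqueMinimalPrime A := by
  refine ⟨nilradical A, ⟨⟨h, bot_le⟩, fun Q hQ _ => ?_⟩, fun Q hQ => ?_⟩
  · haveI := hQ.1
    exact nilradical_le_prime Q
  · haveI := hQ.1.1
    exact le_antisymm (hQ.2 ⟨h, bot_le⟩ (nilradical_le_prime Q)) (nilradical_le_prime Q)

/-- A point whose local ring has one minimal prime lies on one component. -/
theorem components_encard_eq_one {X : Scheme.{u}} (x : X)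
    (h : CAlgX.HasUniqueMinimalPrime (X.presheaf.stalk x)) :
    {Z : Set ↑X | Z ∈ irreducibleComponents ↑X ∧ x ∈ Z}.encard = 1 := by
  rw [Set.encard_eq_one]
  refine ⟨irreducibleComponent x, Set.eq_singleton_iff_unique_mem.2
    ⟨⟨irreducibleComponent_mem_irreducibleComponents x, mem_irreducibleComponent⟩, ?_⟩⟩
  have key : ∀ Z ∈ irreducibleComponents X, x ∈ Z → ∀ P, P ∈ minimalPrimes (X.presheaf.stalk x) →
      ∀ (hP : P.IsPrime), IsGenericPoint (X.fromSpecStalk x ⟨P, hP⟩) Z := by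
    intro Z hZ hxZ P hPmin hP
    obtain ⟨η, hη, hmax⟩ := exists_generic hZ
    obtain ⟨c, hc⟩ : η ∈ Set.range (X.fromSpecStalk x) := by
      rw [Scheme.range_fromSpecStalk]; exact hη.specializes hxZ
    haveI := c.isPrime
    have hmin : c.asIdeal ∈ minimalPrimes (X.presheaf.stalk x) := by
      refine ⟨⟨c.isPrime, bot_le⟩, fun Q hQ hle => ?_⟩
      let d : Spec (X.presheaf.stalk x) := (⟨Q, hQ.1⟩ : PrimeSpectrum (X.presheaf.stalk x))
      have h1 : d ⤳ c := (PrimeSpectrum.le_iff_specializes _ _).1 hle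
      have h2 : X.fromSpecStalk x d = η := hmax _ (hc ▸ h1.map (X.fromSpecStalk x).continuous)
      have h3 : d = c := (X.fromSpecStalk x).isEmbedding.injective (h2.trans hc.symm)
      exact (congrArg PrimeSpectrum.asIdeal h3).ge
    have h4 : (⟨P, hP⟩ : PrimeSpectrum (X.presheaf.stalk x)) = c := PrimeSpectrum.ext (h.unique hPmin hmin)
    rw [h4, hc]
    exact hη
  intro Z hZ
  obtain ⟨P, hP, -⟩ := h
  exact (key Z hZ.1 hZ.2 P hP hP.1.1).def.symm.trans
    (key _ (irreducibleComponent_mem_irreducibleComponents x) mem_irreducibleComponent P hP hP.1.1).def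

/-- Local rings of an étale algebra inherit a unique minimal prime from a henselian local ring over them. -/
theorem hasUniqueMinimalPrime_of_point {A C : Type u} [CommRing A] [CommRing C] [Algebra A C] [Algebra.Etale A C]
    (q : Ideal C) [q.IsPrime] (S : Type u) [CommRing S] [HenselianLocalRing S] [Algebra A S] [Module.Flat A S]
    (ψ : C →ₐ[A] IsLocalRing.ResidueField S) (hψ : RingHom.ker ψ.toRingHom = q)
    (hS : CAlgX.HasUniqueMinimalPrime S) (Cq : Type u) [CommRing Cq] [Algebra C Cq] [IsLocalization.AtPrime Cq q]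
    [IsLocalRing Cq] : CAlgX.HasUniqueMinimalPrime Cq := by
  let π : S →ₐ[A] IsLocalRing.ResidueField S := IsScalarTower.toAlgHom A S (IsLocalRing.ResidueField S)
  have hker : RingHom.ker π.toRingHom = IsLocalRing.maximalIdeal S := IsLocalRing.ker_residue (R := S)
  obtain ⟨φ, hφ, -⟩ := Hensel.existsUnique_algHom_of_quotient π IsLocalRing.residue_surjective
    (hker ▸ inferInstance) ψ
  have hq : (IsLocalRing.maximalIdeal S).comap φ.toRingHom = q := by
    ext c
    rw [Ideal.mem_comap, ← IsLocalRing.residue_eq_zero_iff, ← hψ, RingHom.mem_ker]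
    have : IsLocalRing.residue S (φ c) = ψ c := AlgHom.congr_fun hφ c
    change IsLocalRing.residue S (φ c) = 0 ↔ _
    rw [this]
    rfl
  letI : Algebra C S := φ.toRingHom.toAlgebra
  haveI : IsScalarTower A C S := IsScalarTower.of_algebraMap_eq fun r => (φ.commutes r).symm
  haveI : Module.Flat C S := UnramLib.flat_of_formallyUnramified A C S
  have hu : ∀ y : q.primeCompl, IsUnit (φ y) := fun y => isUnit_point hq y
  let l : Cq →+* S := IsLocalization.lift (M := q.primeCompl) (g := φ.toRingHom) hu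
  have hl : ∀ c, l (algebraMap C Cq c) = φ c := fun c => IsLocalization.lift_eq _ c
  letI : Algebra Cq S := l.toAlgebra
  haveI : IsScalarTower C Cq S := IsScalarTower.of_algebraMap_eq fun c => (hl c).symm
  haveI : Module.Flat Cq S := (Module.flat_iff_of_isLocalization Cq q.primeCompl S).2 inferInstance
  haveI : IsLocalHom (algebraMap Cq S) := by
    refine ⟨fun z hz => ?_⟩
    obtain ⟨⟨c, s⟩, h⟩ := IsLocalization.surj q.primeCompl z
    have h' := congrArg l h
    rw [map_mul, hl, hl] at h'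
    have hc : c ∈ q.primeCompl := fun hcq => by
      rw [← hq] at hcq
      exact (IsLocalRing.mem_maximalIdeal _).1 hcq (show IsUnit (φ c) from h' ▸ hz.mul (hu s))
    have h2 : IsUnit (z * algebraMap C Cq s) := h ▸ IsLocalization.map_units Cq (⟨c, hc⟩ : q.primeCompl)
    exact (IsUnit.mul_iff.1 h2).1
  haveI : Module.FaithfullyFlat Cq S := Module.FaithfullyFlat.of_flat_of_isLocalHom
  obtain ⟨P, hP, huniq⟩ := hS
  haveI := hP.1.1
  refine ⟨P.comap (algebraMap Cq S), comap_mem_minimalPrimes hP, fun r hr => ?_⟩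
  haveI := hr.1.1
  obtain ⟨Q, hQ, hQr⟩ : ∃ Q : Ideal S, Q.IsPrime ∧ Q.comap (algebraMap Cq S) = r := by
    obtain ⟨Q, hQ⟩ := PrimeSpectrum.comap_surjective_of_faithfullyFlat (B := S) ⟨r, hr.1.1⟩
    exact ⟨Q.asIdeal, Q.isPrime, congrArg PrimeSpectrum.asIdeal hQ⟩
  haveI := hQ
  obtain ⟨P', hP', hP'Q⟩ := Ideal.exists_minimalPrimes_le (bot_le : (⊥ : Ideal S) ≤ Q)
  rw [huniq P' hP'] at hP'Q
  exact le_antisymm (hr.2 ⟨Ideal.IsPrime.comap _, bot_le⟩ (hQr ▸ Ideal.comap_mono hP'Q))
    (hQr ▸ Ideal.comap_mono hP'Q)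

variable {X : Scheme.{u}}

/-- An étale algebra over an affine open with two minimal primes below `q` gives a neighbourhood with two
components through its point. -/
theorem components_encard_ne_one {V : X.Opens} (hV : IsAffineOpen V) (x : X) (hx : x ∈ V) (C : CommRingCat.{u})
    (a : Γ(X, V) ⟶ C) (q : Ideal C) [q.IsPrime]
    (hqp : q.comap a.hom = (hV.primeIdealOf ⟨x, hx⟩).asIdeal)
    {r₁ r₂ : Ideal C} (h₁ : r₁ ∈ minimalPrimes C) (h₂ : r₂ ∈ minimalPrimes C) (hne : r₁ ≠ r₂) (hle₁ : r₁ ≤ q)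
    (hle₂ : r₂ ≤ q) :
    (Spec.map a ≫ hV.fromSpec) (⟨q, inferInstance⟩ : PrimeSpectrum C) = x ∧
    {Z : Set ↑(Spec C) | Z ∈ irreducibleComponents ↑(Spec C) ∧
      (⟨q, inferInstance⟩ : PrimeSpectrum C) ∈ Z}.encard ≠ 1 := by
  refine ⟨?_, fun h1 => ?_⟩
  · have h : Spec.map a (⟨q, inferInstance⟩ : PrimeSpectrum C) = hV.primeIdealOf ⟨x, hx⟩ :=
      PrimeSpectrum.ext hqp
    rw [Scheme.Hom.comp_apply, h]
    exact hV.fromSpec_primeIdealOf _
  obtain ⟨Z, hZ⟩ := Set.encard_eq_one.1 h1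
  have key : ∀ r (hr : r ∈ minimalPrimes C), r ≤ q →
      closure ({(⟨r, hr.1.1⟩ : PrimeSpectrum C)} : Set (Spec C)) = Z := by
    intro r hr hle
    refine Set.mem_singleton_iff.1 (hZ ▸ ⟨mem_components_of_maximal (Y := Spec C) fun z hz => ?_, ?_⟩)
    · have h3 : z.asIdeal ≤ r := (PrimeSpectrum.le_iff_specializes z ⟨r, hr.1.1⟩).2 hz
      exact PrimeSpectrum.ext (le_antisymm h3 (hr.2 ⟨z.isPrime, bot_le⟩ h3))
    · exact ((PrimeSpectrum.le_iff_specializes ⟨r, hr.1.1⟩ ⟨q, inferInstance⟩).1 hle).mem_closure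
  have hz : (⟨r₁, h₁.1.1⟩ : PrimeSpectrum C) = ⟨r₂, h₂.1.1⟩ :=
    ((show IsGenericPoint (⟨r₁, h₁.1.1⟩ : PrimeSpectrum C) Z from key r₁ h₁ hle₁).eq (key r₂ h₂ hle₂))
  exact hne (congrArg PrimeSpectrum.asIdeal hz)

theorem residueFieldMap_bijective_of_lift {U : Scheme.{u}} (g : U ⟶ X) (x : X)
    (ξ : Spec (X.residueField x) ⟶ U) (h : ξ ≫ g = X.fromSpecResidueField x)
    (z : Spec (X.residueField x)) (u : U) (hu : ξ z = u) : Function.Bijective (g.residueFieldMap u) := by
  subst hu
  refine ⟨RingHom.injective _, fun y => ?_⟩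
  have hs : Function.Surjective ((ξ ≫ g).residueFieldMap z) := by
    haveI : IsPreimmersion (ξ ≫ g) := h ▸ inferInstance
    intro w
    obtain ⟨s, rfl⟩ := IsLocalRing.residue_surjective w
    obtain ⟨t, rfl⟩ := (ξ ≫ g).stalkMap_surjective z s
    exact ⟨X.residue _ t, ConcreteCategory.congr_hom (Scheme.residue_residueFieldMap (ξ ≫ g) z) t⟩
  obtain ⟨t, ht⟩ := hs (ξ.residueFieldMap z y)
  rw [Scheme.residueFieldMap_comp] at ht
  exact ⟨t, RingHom.injective (ξ.residueFieldMap z).hom ht⟩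

end Groth.Agent.UnibranchEtale

namespace Groth.Agent.UnibranchEtale

variable {X : Scheme.{u}}

theorem hasUniqueMinimalPrime_of_nbhd_aux {U : Scheme.{u}} (g : U ⟶ X) [Etale g] (u : U)
    (hres : Function.Bijective (g.residueFieldMap u)) (S : Type u) [CommRing S] [HenselianLocalRing S]
    [Algebra (X.presheaf.stalk (g u)) S] [Module.Flat (X.presheaf.stalk (g u)) S]
    [hloc : IsLocalHom (algebraMap (X.presheaf.stalk (g u)) S)]
    (hS : CAlgX.HasUniqueMinimalPrime S) : CAlgX.HasUniqueMinimalPrime (U.presheaf.stalk u) := by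
  obtain ⟨V, hV, W, hW, huW, -, e⟩ := exists_affine_chart g u ⊤ trivial
  have hE : (g.appLE V W e).hom.Etale := g.etale_appLE hV hW e
  letI := (g.appLE V W e).hom.toAlgebra
  haveI : Algebra.Etale Γ(X, V) Γ(U, W) := hE
  letI := TopCat.Presheaf.algebra_section_stalk X.presheaf (⟨g u, e huW⟩ : V)
  haveI := hV.isLocalization_stalk ⟨g u, e huW⟩
  letI := TopCat.Presheaf.algebra_section_stalk U.presheaf (⟨u, huW⟩ : W)
  haveI := hW.isLocalization_stalk ⟨u, huW⟩
  letI : Algebra Γ(X, V) S := ((algebraMap (X.presheaf.stalk (g u)) S).comp (algebraMap Γ(X, V) _)).toAlgebra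
  haveI : IsScalarTower Γ(X, V) (X.presheaf.stalk (g u)) S := IsScalarTower.of_algebraMap_eq fun _ => rfl
  haveI : Module.Flat Γ(X, V) (X.presheaf.stalk (g u)) :=
    IsLocalization.flat (X.presheaf.stalk (g u)) (hV.primeIdealOf ⟨g u, e huW⟩).asIdeal.primeCompl
  haveI : Module.Flat Γ(X, V) S := Module.Flat.trans Γ(X, V) (X.presheaf.stalk (g u)) S
  haveI : IsLocalHom (algebraMap (X.presheaf.stalk (g u)) S) := hloc
  let τ : X.residueField (g u) →+* IsLocalRing.ResidueField S :=
    IsLocalRing.ResidueField.map (algebraMap (X.presheaf.stalk (g u)) S)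
  let er := RingEquiv.ofBijective (g.residueFieldMap u).hom hres
  let ψ₀ : Γ(U, W) →+* IsLocalRing.ResidueField S :=
    τ.comp (er.symm.toRingHom.comp ((U.residue u).hom.comp (algebraMap Γ(U, W) (U.presheaf.stalk u))))
  have hψA : ∀ r, ψ₀ (algebraMap Γ(X, V) Γ(U, W) r) = algebraMap Γ(X, V) (IsLocalRing.ResidueField S) r := by
    intro r
    have h1 : g.stalkMap u (X.presheaf.germ V (g u) (e huW) r) = U.presheaf.germ W u huW (g.appLE V W e r) := by
      rw [Scheme.Hom.germ_stalkMap_apply, Scheme.Hom.appLE]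
      exact (TopCat.Presheaf.germ_res_apply U.presheaf (homOfLE e) u huW _).symm
    have h2 : er (X.residue (g u) (X.presheaf.germ V (g u) (e huW) r)) =
        U.residue u (U.presheaf.germ W u huW (g.appLE V W e r)) := by
      rw [← h1]
      exact ConcreteCategory.congr_hom (Scheme.residue_residueFieldMap g u) _
    change τ (er.symm (U.residue u (U.presheaf.germ W u huW (g.appLE V W e r)))) = _
    rw [← h2, RingEquiv.symm_apply_apply]
    exact IsLocalRing.ResidueField.map_residue _ _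
  let ψ : Γ(U, W) →ₐ[Γ(X, V)] IsLocalRing.ResidueField S := { ψ₀ with commutes' := hψA }
  refine hasUniqueMinimalPrime_of_point (A := Γ(X, V)) (hW.primeIdealOf ⟨u, huW⟩).asIdeal S ψ ?_ hS
    (U.presheaf.stalk u)
  ext c
  rw [RingHom.mem_ker]
  change τ (er.symm (IsLocalRing.residue _ (algebraMap Γ(U, W) (U.presheaf.stalk u) c))) = 0 ↔ _
  rw [map_eq_zero, map_eq_zero_iff _ er.symm.injective]
  exact (IsLocalRing.residue_eq_zero_iff _).trans
    (IsLocalization.AtPrime.to_map_mem_maximal_iff (U.presheaf.stalk u) (hW.primeIdealOf ⟨u, huW⟩).asIdeal c)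

/-- At an elementary étale neighbourhood of a unibranch point the local ring has one minimal prime. -/
theorem hasUniqueMinimalPrime_of_nbhd (x : X) (hX : CAlg2.IsUnibranch (X.presheaf.stalk x)) {U : Scheme.{u}}
    (g : U ⟶ X) (u : U) (hg : Hens2.IsEtaleNbhd g u x) : CAlgX.HasUniqueMinimalPrime (U.presheaf.stalk u) := by
  obtain ⟨het, hbase, hres⟩ := hg
  have hbase' : g u = x := hbase
  clear hbase
  subst hbase'
  haveI := het
  obtain ⟨hloc, hH⟩ := Hensel.exists_henselization (X.presheaf.stalk (g u))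
  haveI := hH.henselian
  haveI := hloc
  haveI := Hensel.flat_env (X.presheaf.stalk (g u)) (IsLocalRing.ResidueField (X.presheaf.stalk (g u)))
  exact hasUniqueMinimalPrime_of_nbhd_aux g u hres
    (Hensel.Env (X.presheaf.stalk (g u)) (IsLocalRing.ResidueField (X.presheaf.stalk (g u))))
    ((S2052.result (A := X.presheaf.stalk (g u))
      (Ah := Hensel.Env (X.presheaf.stalk (g u)) (IsLocalRing.ResidueField (X.presheaf.stalk (g u))))).1 hX)

/-- If a henselian envelope of the local ring has two minimal primes, so has an étale neighbourhood. -/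
theorem exists_two_components (x : X) (K : Type u) [Field K] [Algebra (X.presheaf.stalk x) K]
    [Algebra (IsLocalRing.ResidueField (X.presheaf.stalk x)) K]
    [IsScalarTower (X.presheaf.stalk x) (IsLocalRing.ResidueField (X.presheaf.stalk x)) K]
    [Algebra.IsSeparable (IsLocalRing.ResidueField (X.presheaf.stalk x)) K]
    (h : ¬ CAlgX.HasUniqueMinimalPrime (Hensel.Env (X.presheaf.stalk x) K)) :
    ∃ (U : Scheme.{u}) (g : U ⟶ X) (u : U), Etale g ∧ g u = x ∧
      (Function.Bijective (algebraMap (IsLocalRing.ResidueField (X.presheaf.stalk x)) K) →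
        Function.Bijective (g.residueFieldMap u)) ∧
      {Z : Set ↑U | Z ∈ irreducibleComponents ↑U ∧ u ∈ Z}.encard ≠ 1 := by
  obtain ⟨V, hV, hxV, -⟩ := exists_isAffineOpen_mem_and_subset (U := ⊤) (x := x) trivial
  letI := TopCat.Presheaf.algebra_section_stalk X.presheaf (⟨x, hxV⟩ : V)
  haveI := hV.isLocalization_stalk ⟨x, hxV⟩
  letI : Algebra Γ(X, V) K := ((algebraMap (X.presheaf.stalk x) K).comp (algebraMap Γ(X, V) _)).toAlgebra
  haveI : IsScalarTower Γ(X, V) (X.presheaf.stalk x) K := IsScalarTower.of_algebraMap_eq fun _ => rfl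
  haveI := Hensel.flat_env (X.presheaf.stalk x) K
  haveI : IsLocalHom (algebraMap (X.presheaf.stalk x) (Hensel.Env (X.presheaf.stalk x) K)) :=
    (Hensel.exists_residueEquiv_env (X.presheaf.stalk x) K).1
  obtain ⟨P₁, h₁, P₂, h₂, hne⟩ : ∃ P₁ ∈ minimalPrimes (Hensel.Env (X.presheaf.stalk x) K),
      ∃ P₂ ∈ minimalPrimes (Hensel.Env (X.presheaf.stalk x) K), P₁ ≠ P₂ := by
    obtain ⟨P₁, h₁, -⟩ := Ideal.exists_minimalPrimes_le
      (bot_le : (⊥ : Ideal (Hensel.Env (X.presheaf.stalk x) K)) ≤ IsLocalRing.maximalIdeal _)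
    by_contra hc
    push Not at hc
    exact h ⟨P₁, h₁, fun Q hQ => (hc P₁ h₁ Q hQ).symm⟩
  obtain ⟨C, _, _, _, q, _, hq, ⟨θ, hθ⟩, r₁, r₂, hr₁, hr₂, hr, hle₁, hle₂⟩ :=
    exists_nhd_two_minimal (hV.primeIdealOf ⟨x, hxV⟩).asIdeal (X.presheaf.stalk x) K
      (Hensel.Env (X.presheaf.stalk x) K) (Hensel.envRes (X.presheaf.stalk x) K)
      (Hensel.envRes_eq_zero_iff (X.presheaf.stalk x) K)
      (IsScalarTower.toAlgHom (X.presheaf.stalk x) (Hensel.EnvTop (X.presheaf.stalk x) K) _)
      (Hensel.envRes_algebraMap (X.presheaf.stalk x) K) (Hensel.env_hloc (X.presheaf.stalk x) K)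
      (IsLocalRing.maximalIdeal_comap _) h₁ h₂ hne
  let a : Γ(X, V) ⟶ CommRingCat.of C := CommRingCat.ofHom (algebraMap Γ(X, V) C)
  obtain ⟨hu, hcard⟩ := components_encard_ne_one hV x hxV (CommRingCat.of C) a q hq hr₁ hr₂ hr hle₁ hle₂
  haveI : Etale (Spec.map a) :=
    (HasRingHomProperty.Spec_iff (P := @Etale)).2 (RingHom.etale_algebraMap.2 inferInstance)
  refine ⟨Spec (CommRingCat.of C), Spec.map a ≫ hV.fromSpec, (⟨q, inferInstance⟩ : PrimeSpectrum C),
    inferInstance, hu, fun hb => ?_, hcard⟩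
  let e₀ := RingEquiv.ofBijective (algebraMap (IsLocalRing.ResidueField (X.presheaf.stalk x)) K) hb
  let θ₀ : C →+* X.residueField x := e₀.symm.toRingHom.comp θ.toRingHom
  have hcomp : θ₀.comp (algebraMap Γ(X, V) C) =
      (IsLocalRing.residue (X.presheaf.stalk x)).comp (algebraMap Γ(X, V) (X.presheaf.stalk x)) := by
    refine RingHom.ext fun r => e₀.injective ?_
    change e₀ (e₀.symm (θ (algebraMap Γ(X, V) C r))) = _
    rw [RingEquiv.apply_symm_apply, θ.commutes, IsScalarTower.algebraMap_apply Γ(X, V) (X.presheaf.stalk x) K,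
      IsScalarTower.algebraMap_apply (X.presheaf.stalk x) (IsLocalRing.ResidueField (X.presheaf.stalk x)) K]
    rfl
  refine residueFieldMap_bijective_of_lift (Spec.map a ≫ hV.fromSpec) x (Spec.map (CommRingCat.ofHom θ₀)) ?_
    (⟨⊥, Ideal.isPrime_bot⟩ : PrimeSpectrum (X.residueField x)) _ ?_
  · have h5 : Spec.map (CommRingCat.ofHom θ₀) ≫ Spec.map a =
        Spec.map (X.residue x) ≫ Spec.map (X.presheaf.germ V x hxV) :=
      ((Spec.map_comp a (CommRingCat.ofHom θ₀)).symm.trans (congrArg Spec.map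
        (CommRingCat.hom_ext hcomp : a ≫ CommRingCat.ofHom θ₀ = X.presheaf.germ V x hxV ≫ X.residue x))).trans
        (Spec.map_comp (X.presheaf.germ V x hxV) (X.residue x))
    refine (Category.assoc _ _ _).symm.trans ?_
    refine (congrArg (fun k => k ≫ hV.fromSpec) h5).trans ?_
    simp only [Category.assoc, Scheme.fromSpecResidueField, ← hV.fromSpecStalk_eq_fromSpecStalk hxV]
    rfl
  · refine PrimeSpectrum.ext ?_
    change RingHom.ker θ₀ = q
    rw [← hθ]
    exact RingHom.ker_comp_of_injective _ e₀.symm.injective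

end Groth.Agent.UnibranchEtale
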