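import Mathlib

/-!
Standard smooth quasi-finite algebras are étale: the relative dimension vanishes.
-/

set_option autoImplicit false
set_option linter.style.haveILetI false

universe u

namespace Groth.Agent.UnibranchEtale

/-- An algebra with a point, étale over a polynomial ring in `n` variables and quasi-finite over the
base, has `n = 0`. -/
theorem relDim_eq_zero (R S : Type u) [CommRing R] [CommRing S] [Algebra R S] [Nontrivial S]
    [Algebra.QuasiFinite R S] (n : ℕ) (g : MvPolynomial (Fin n) R →ₐ[R] S) (hg : g.toRingHom.Etale) :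
    n = 0 := by
  by_contra hn
  obtain ⟨q, hq⟩ := Ideal.exists_maximal S
  set p : Ideal R := q.comap (algebraMap R S)
  letI := g.toRingHom.toAlgebra
  haveI : Algebra.Etale (MvPolynomial (Fin n) R) S := hg
  haveI hP : (Ideal.map MvPolynomial.C p : Ideal (MvPolynomial (Fin n) R)).IsPrime := by
    rw [← Ideal.mk_ker (I := p), ← MvPolynomial.ker_map]
    exact RingHom.ker_isPrime _
  set P : Ideal (MvPolynomial (Fin n) R) := Ideal.map MvPolynomial.C p
  have hle : P ≤ q.comap g.toRingHom := Ideal.map_le_iff_le_comap.2 fun r hr => by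
    change g (MvPolynomial.C r) ∈ q
    rw [← MvPolynomial.algebraMap_eq, g.commutes]
    exact hr
  haveI : q.LiesOver (q.comap g.toRingHom) := ⟨rfl⟩
  obtain ⟨Q, hQle, hQ, hQP⟩ := Ideal.exists_ideal_le_liesOver_of_le (p := P)
    (q := q.comap g.toRingHom) (S := S) q hle
  have hQq : Q = q := by
    haveI := hQ
    refine Algebra.QuasiFinite.eq_of_le_of_under_eq (R := R) Q q hQle (le_antisymm ?_ ?_)
    · exact Ideal.comap_mono hQle
    · intro r hr
      have h1 : MvPolynomial.C r ∈ Q.comap g.toRingHom := by
        have h3 : P = Q.comap g.toRingHom := hQP.over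
        rw [← h3]
        exact Ideal.mem_map_of_mem _ hr
      have h2 : g (MvPolynomial.C r) ∈ Q := h1
      rwa [← MvPolynomial.algebraMap_eq, g.commutes] at h2
  have hker : q.comap g.toRingHom = P := by
    rw [← hQq]
    exact hQP.over.symm
  -- the residue field of `q` is finite over the fraction field of `R ⧸ p`
  let A := R ⧸ p
  letI : Algebra A q.ResidueField :=
    (Ideal.Quotient.lift p (algebraMap R q.ResidueField) fun r hr => by
      rw [IsScalarTower.algebraMap_apply R S q.ResidueField]
      exact Ideal.algebraMap_residueField_eq_zero.2 hr).toAlgebra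
  haveI : IsScalarTower R A q.ResidueField := IsScalarTower.of_algebraMap_eq fun _ => rfl
  haveI : FaithfulSMul A q.ResidueField := by
    rw [faithfulSMul_iff_algebraMap_injective, RingHom.algebraMap_toAlgebra,
      injective_iff_map_eq_zero]
    intro a ha
    obtain ⟨r, rfl⟩ := Ideal.Quotient.mk_surjective a
    rw [Ideal.Quotient.lift_mk, IsScalarTower.algebraMap_apply R S q.ResidueField] at ha
    have h4 : algebraMap R S r ∈ q := Ideal.algebraMap_residueField_eq_zero.1 ha
    exact Ideal.Quotient.eq_zero_iff_mem.2 h4
  letI : Algebra (FractionRing A) q.ResidueField := FractionRing.liftAlgebra A q.ResidueField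
  haveI : Algebra.QuasiFinite A q.ResidueField := .of_restrictScalars R A q.ResidueField
  haveI : Algebra.QuasiFinite (FractionRing A) q.ResidueField :=
    .of_restrictScalars A (FractionRing A) q.ResidueField
  haveI : Module.Finite (FractionRing A) q.ResidueField := .of_quasiFinite
  let i : Fin n := ⟨0, Nat.pos_of_ne_zero hn⟩
  have halg : IsAlgebraic A (algebraMap S q.ResidueField (g (MvPolynomial.X i))) :=
    (IsFractionRing.isAlgebraic_iff A (FractionRing A) q.ResidueField).2
      (Algebra.IsAlgebraic.isAlgebraic _)
  obtain ⟨w, hw0, hw⟩ := halg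
  obtain ⟨h, rfl⟩ := Polynomial.map_surjective _ Ideal.Quotient.mk_surjective w
  have hmem : Polynomial.aeval (MvPolynomial.X i : MvPolynomial (Fin n) R) h ∈ q.comap g.toRingHom := by
    change g _ ∈ q
    rw [← Ideal.algebraMap_residueField_eq_zero, ← Polynomial.aeval_algHom_apply]
    have : Polynomial.aeval (algebraMap S q.ResidueField (g (MvPolynomial.X i))) h = 0 := by
      rwa [← Polynomial.aeval_map_algebraMap A, Ideal.Quotient.algebraMap_eq]
    rwa [Polynomial.aeval_algebraMap_apply] at this
  rw [hker, MvPolynomial.mem_map_C_iff] at hmem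
  apply hw0
  ext k
  rw [Polynomial.coeff_map, Polynomial.coeff_zero, Ideal.Quotient.eq_zero_iff_mem]
  have := hmem (Finsupp.single i k)
  rw [Polynomial.aeval_eq_sum_range, MvPolynomial.coeff_sum] at this
  by_cases hk : k ∈ Finset.range (h.natDegree + 1)
  · rw [Finset.sum_eq_single k] at this
    · simpa [MvPolynomial.X_pow_eq_monomial, MvPolynomial.coeff_smul] using this
    · intro b _ hb
      simp [MvPolynomial.X_pow_eq_monomial, MvPolynomial.coeff_smul, Finsupp.single_eq_single_iff, hb]
      exact fun h1 h2 => absurd (h1.trans h2.symm) hb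
    · exact fun hk' => absurd hk hk'
  · rw [Polynomial.coeff_eq_zero_of_natDegree_lt (by simp at hk; omega)]
    exact zero_mem _

end Groth.Agent.UnibranchEtale
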