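import Mathlib
import Groth.Agent.UnibranchEtale.Normalization
import Groth.Agent.UnibranchEtale.Scheme
import Groth.Agent.CurveNorm.Basic
import Groth.Agent.WeakNorm.AwnLoc

/-!
Normalisation of a geometrically unibranch integral scheme in a purely inseparable extension.
-/

set_option autoImplicit false
set_option linter.style.haveILetI false

universe u

open CategoryTheory AlgebraicGeometry

namespace Groth.Agent.UnibranchEtale

/-- Over a geometrically unibranch domain the normalisation in a purely inseparable extension is radicial. -/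
theorem universallyInjective_of_purelyInseparable (A : Type u) [CommRing A] [IsDomain A] (K L : Type u)
    [Field K] [Field L] [Algebra A K] [IsFractionRing A K] [Algebra K L] [Algebra A L] [IsScalarTower A K L]
    [IsPurelyInseparable K L] (h : ∀ (p : Ideal A) [p.IsPrime], CAlg2.IsGeomUnibranch (Localization.AtPrime p)) :
    UniversallyInjective (Spec.map (CommRingCat.ofHom (algebraMap A (integralClosure A L)))) := by
  haveI hU : UniversallyInjective (Spec.map (CommRingCat.ofHom (algebraMap A (integralClosure A K)))) :=
    (universallyInjective_iff A K).2 fun p _ => (isGeomUnibranch_iff_radOver A K p).1 (h p)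
  rw [(tfae_universallyInjective _).out 0 1 rfl rfl] at hU ⊢
  intro F _ g₁ g₂ hg
  obtain ⟨α, rfl⟩ := Spec.map_surjective g₁
  obtain ⟨β, rfl⟩ := Spec.map_surjective g₂
  simp only [← Spec.map_comp] at hg
  have hg' := congrArg CommRingCat.Hom.hom (Spec.map_injective hg)
  let ι : integralClosure A K →ₐ[A] integralClosure A L :=
    AlgHom.codRestrict ((IsScalarTower.toAlgHom A K L).comp (integralClosure A K).val) _
      fun x => x.2.map (IsScalarTower.toAlgHom A K L)
  have hι : α.hom.comp ι.toRingHom = β.hom.comp ι.toRingHom := by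
    have h1 := @hU F _ (Spec.map (CommRingCat.ofHom (α.hom.comp ι.toRingHom)))
      (Spec.map (CommRingCat.ofHom (β.hom.comp ι.toRingHom))) (by
        simp only [← Spec.map_comp]
        refine congrArg Spec.map (CommRingCat.hom_ext ?_)
        change (α.hom.comp ι.toRingHom).comp (algebraMap A (integralClosure A K)) =
          (β.hom.comp ι.toRingHom).comp (algebraMap A (integralClosure A K))
        have hc : ι.toRingHom.comp (algebraMap A (integralClosure A K)) = algebraMap A (integralClosure A L) :=
          ι.comp_algebraMap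
        rw [RingHom.comp_assoc, RingHom.comp_assoc, hc]
        exact hg')
    exact congrArg CommRingCat.Hom.hom (Spec.map_injective h1)
  refine congrArg Spec.map (CommRingCat.hom_ext (RingHom.ext fun z => ?_))
  obtain ⟨q, hqA⟩ := ExpChar.exists A
  haveI := hqA
  haveI : ExpChar K q := expChar_of_injective_ringHom (IsFractionRing.injective A K) q
  obtain ⟨m, c, hc⟩ := IsPurelyInseparable.pow_mem K q (z : L)
  have hcint : IsIntegral A c := by
    rw [← isIntegral_algHom_iff (IsScalarTower.toAlgHom A K L) (algebraMap K L).injective]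
    change IsIntegral A (algebraMap K L c)
    rw [hc]
    exact z.2.pow _
  have hz : z ^ q ^ m = ι ⟨c, hcint⟩ := Subtype.ext hc.symm
  have h1 := RingHom.congr_fun hι ⟨c, hcint⟩
  change α.hom (ι ⟨c, hcint⟩) = β.hom (ι ⟨c, hcint⟩) at h1
  rw [← hz, map_pow, map_pow] at h1
  cases hqA with
  | zero => simpa using h1
  | prime hp =>
    haveI := Fact.mk hp
    have h0 : (q : F) = 0 := by
      have := congrArg (α.hom.comp (algebraMap A (integralClosure A L))) (CharP.cast_eq_zero A q)
      rwa [map_natCast, map_zero] at this
    haveI : CharP F q := (CharP.charP_iff_prime_eq_zero hp).2 h0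
    haveI : ExpChar F q := ExpChar.prime hp
    exact iterateFrobenius_inj F q m h1

variable {X : Scheme.{u}} [IsIntegral X] {L : Type u} [Field L] (φ : X.functionField →+* L)
  (g : Spec (CommRingCat.of L) ⟶ X) [QuasiCompact g] [QuasiSeparated g]

/-- Normalisation of a geometrically unibranch integral scheme in a purely inseparable extension is a
universal homeomorphism. -/
theorem isUnivHomeo_fromNormalization (hX : ∀ x : X, CAlg2.IsGeomUnibranch (X.presheaf.stalk x))
    (hg : g = Spec.map (CommRingCat.ofHom φ) ≫ X.fromSpecStalk (genericPoint X))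
    (hφ : φ.IsPurelyInseparable) : FlatMor.IsUnivHomeo g.fromNormalization := by
  rw [WeakNorm.isUnivHomeo_iff]
  haveI : UniversallyInjective g.fromNormalization := by
    let U : {V : X.affineOpens // Nonempty V.1} → X.Opens := fun V => V.1.1
    have htop : iSup U = ⊤ := by
      refine eq_top_iff.2 fun x _ => ?_
      obtain ⟨V, hV, hxV, -⟩ := exists_isAffineOpen_mem_and_subset (U := ⊤) (x := x) trivial
      exact TopologicalSpace.Opens.mem_iSup.2 ⟨⟨⟨V, hV⟩, ⟨⟨x, hxV⟩⟩⟩, hxV⟩
    rw [IsZariskiLocalAtTarget.iff_of_iSup_eq_top (P := @UniversallyInjective) U htop]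
    rintro ⟨⟨V, hV⟩, hne⟩
    haveI := hne
    haveI : IsAffine V := hV
    haveI : IsAffine (g.fromNormalization ⁻¹ᵁ V) := hV.preimage _
    have e₁ := arrowIsoSpecΓOfIsAffine (g.fromNormalization ∣_ V)
    rw [MorphismProperty.arrow_mk_iso_iff @UniversallyInjective e₁]
    have happ : (g.fromNormalization.resLE V (g.fromNormalization ⁻¹ᵁ V) le_rfl).appTop =
        (g.fromNormalization ∣_ V).appTop := by rw [Scheme.Hom.resLE_eq_morphismRestrict]
    let e₂ := arrowResLEAppIso g.fromNormalization V (g.fromNormalization ⁻¹ᵁ V) le_rfl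
    rw [← happ, show (g.fromNormalization.resLE V (g.fromNormalization ⁻¹ᵁ V) le_rfl).appTop =
        e₂.hom.left ≫ g.fromNormalization.appLE V (g.fromNormalization ⁻¹ᵁ V) le_rfl ≫ e₂.inv.right from
          Arrow.iso_w' e₂.symm]
    simp only [Spec.map_comp, Category.assoc]
    rw [MorphismProperty.cancel_left_of_respectsIso @UniversallyInjective,
      MorphismProperty.cancel_right_of_respectsIso @UniversallyInjective,
      ← Scheme.Hom.app_eq_appLE, g.fromNormalization_app hV,
      Spec.map_comp, MorphismProperty.cancel_left_of_respectsIso @UniversallyInjective]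
    letI := (g.app V).hom.toAlgebra
    obtain ⟨e, he⟩ := CurveNorm.exists_equiv φ g hg V
    haveI := functionField_isFractionRing_of_isAffineOpen X V hV
    letI : Algebra X.functionField L := φ.toAlgebra
    letI : Algebra Γ(X, V) L := (φ.comp (X.germToFunctionField V).hom).toAlgebra
    haveI : IsScalarTower Γ(X, V) X.functionField L := IsScalarTower.of_algebraMap_eq fun _ => rfl
    haveI : IsPurelyInseparable X.functionField L := hφ
    let ψ : Γ(Spec (CommRingCat.of L), g ⁻¹ᵁ V) ≃ₐ[Γ(X, V)] L :=
      AlgEquiv.ofRingEquiv (f := e.commRingCatIsoToRingEquiv) fun r => ConcreteCategory.congr_hom he r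
    let ψ' : integralClosure Γ(X, V) Γ(Spec (CommRingCat.of L), g ⁻¹ᵁ V) ≃ₐ[Γ(X, V)] integralClosure Γ(X, V) L :=
      ψ.mapIntegralClosure
    have hfac : CommRingCat.ofHom (algebraMap Γ(X, V) (integralClosure Γ(X, V) Γ(Spec (CommRingCat.of L), g ⁻¹ᵁ V))) =
        CommRingCat.ofHom (algebraMap Γ(X, V) (integralClosure Γ(X, V) L)) ≫ ψ'.symm.toRingEquiv.toCommRingCatIso.hom :=
      CommRingCat.hom_ext (RingHom.ext fun r => (ψ'.symm.commutes r).symm)
    rw [hfac, Spec.map_comp, MorphismProperty.cancel_left_of_respectsIso @UniversallyInjective]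
    have key : ∀ P : PrimeSpectrum Γ(X, V), CAlg2.IsGeomUnibranch (Localization.AtPrime P.asIdeal) := by
      intro P
      obtain ⟨y, hy, rfl⟩ : ∃ (y : X) (hy : y ∈ V), hV.primeIdealOf ⟨y, hy⟩ = P :=
        ⟨hV.fromSpec P, hV.range_fromSpec.le ⟨_, rfl⟩,
          hV.fromSpec.isOpenEmbedding.injective (hV.fromSpec_primeIdealOf _)⟩
      exact (stalk_localization V hV y hy).2.1 (hX y)
    exact universallyInjective_of_purelyInseparable Γ(X, V) X.functionField L fun p hp => key ⟨p, hp⟩
  refine ⟨inferInstance, inferInstance, ⟨fun x => ?_⟩⟩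
  have hd : DenseRange g := by
    rw [denseRange_iff_closure_range]
    refine Set.eq_univ_of_univ_subset ?_
    obtain ⟨l⟩ : Nonempty (Spec (CommRingCat.of L)) := inferInstance
    have h1 : g l ∈ Set.range (X.fromSpecStalk (genericPoint X)) :=
      ⟨Spec.map (CommRingCat.ofHom φ) l, by rw [hg]; rfl⟩
    rw [Scheme.range_fromSpecStalk] at h1
    have h2 : g l = genericPoint X := (h1.antisymm ((genericPoint_spec X).specializes trivial)).eq
    rw [← (genericPoint_spec X).def, ← h2]
    exact closure_mono (Set.singleton_subset_iff.2 ⟨l, rfl⟩)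
  have hr : closure (Set.range g) ⊆ Set.range g.fromNormalization := by
    refine closure_minimal ?_ g.fromNormalization.isClosedMap.isClosed_range
    rintro _ ⟨l, rfl⟩
    exact ⟨g.toNormalization l, by rw [← Scheme.Hom.comp_apply, g.toNormalization_fromNormalization]⟩
  rw [hd.closure_range] at hr
  exact hr trivial

end Groth.Agent.UnibranchEtale
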