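import Mathlib
import Groth.Agent.SmoothRed.Basic
import Groth.Agent.FibCrit.Props

/-!
Quasi-finite morphisms with smooth fibres in characteristic zero; dominant quasi-compact morphisms
hit the generic point.
-/

set_option autoImplicit false
set_option linter.style.haveILetI false

universe u

open CategoryTheory AlgebraicGeometry Limits

namespace Groth.Agent.UnibranchEtale

theorem formallyUnramified_of_smooth_field (K A : Type u) [Field K] [CharZero K] [CommRing A] [Algebra K A]
    [Algebra.Smooth K A] [Algebra.QuasiFinite K A] : Algebra.FormallyUnramified K A := by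
  haveI : Module.Finite K A := Module.Finite.of_quasiFinite
  haveI : IsReduced A := SmoothRed.isReduced_of_smooth K A
  haveI : IsArtinianRing A := IsArtinianRing.of_finite K A
  letI : ∀ m : MaximalSpectrum A, Field (A ⧸ m.asIdeal) := fun m => Ideal.Quotient.field _
  haveI : ∀ m : MaximalSpectrum A, Algebra.FormallyUnramified K (A ⧸ m.asIdeal) := fun m =>
    Algebra.FormallyUnramified.of_isSeparable K (A ⧸ m.asIdeal)
  haveI : Finite (MaximalSpectrum A) := inferInstance
  haveI : Algebra.FormallyUnramified K (∀ m : MaximalSpectrum A, A ⧸ m.asIdeal) :=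
    (Algebra.FormallyUnramified.pi_iff _).2 inferInstance
  let e := IsArtinianRing.equivPi A
  exact Algebra.FormallyUnramified.of_equiv
    (AlgEquiv.ofRingEquiv (f := e.toRingEquiv) (fun r => e.commutes (algebraMap K A r) |>.trans rfl)).symm

theorem formallyUnramified_of_smooth_fibres {k : Type u} [Field k] [CharZero k] {X S : Scheme.{u}}
    (σ : S ⟶ Spec (CommRingCat.of k)) (f : X ⟶ S) [LocallyOfFiniteType f] [LocallyQuasiFinite f]
    (hfib : ∀ s : S, Smooth (pullback.snd f (S.fromSpecResidueField s))) : FormallyUnramified f := by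
  refine FibCrit.formallyUnramified_of_fiberToSpecResidueField f fun s => ?_
  haveI hs : Smooth (f.fiberToSpecResidueField s) := hfib s
  haveI : LocallyQuasiFinite (f.fiberToSpecResidueField s) :=
    MorphismProperty.pullback_snd (P := @LocallyQuasiFinite) f (S.fromSpecResidueField s) inferInstance
  set π := f.fiberToSpecResidueField s
  let K := Γ(Spec (S.residueField s), ⊤)
  have hK : IsField K :=
    MulEquiv.isField (Field.toIsField (S.residueField s)) (Scheme.ΓSpecIso (S.residueField s)).commRingCatIsoToRingEquiv.toMulEquiv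
  refine HasRingHomProperty.of_source_openCover (P := @FormallyUnramified) (f.fiber s).affineCover fun i => ?_
  have hsm : ((f.fiber s).affineCover.f i ≫ π).appTop.hom.Smooth :=
    HasRingHomProperty.appTop (P := @Smooth) _ inferInstance
  have hqf : ((f.fiber s).affineCover.f i ≫ π).appTop.hom.QuasiFinite :=
    HasRingHomProperty.appTop (P := @LocallyQuasiFinite) _ inferInstance
  letI := ((f.fiber s).affineCover.f i ≫ π).appTop.hom.toAlgebra
  letI : Field K := hK.toField
  let ι : k →+* K := ((Scheme.ΓSpecIso (CommRingCat.of k)).inv ≫ (S.fromSpecResidueField s ≫ σ).appTop).hom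
  haveI : CharZero K := charZero_of_injective_ringHom ι.injective
  haveI : Algebra.Smooth K Γ((f.fiber s).affineCover.X i, ⊤) := hsm
  haveI : Algebra.QuasiFinite K Γ((f.fiber s).affineCover.X i, ⊤) := hqf
  exact formallyUnramified_of_smooth_field K _

theorem exists_over_generic {X Y : Scheme.{u}} (f : X ⟶ Y) [IsIntegral Y] [QuasiCompact f] [IsDominant f] :
    ∃ x, f x = genericPoint Y := by
  obtain ⟨V, hV, hηV, -⟩ := exists_isAffineOpen_mem_and_subset (U := ⊤) (x := genericPoint Y) trivial
  haveI : CompactSpace (f ⁻¹ᵁ V) := isCompact_iff_compactSpace.1 (f.isCompact_preimage hV.isCompact)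
  obtain ⟨R, c, hc⟩ := compactSpace_iff_exists.1 (inferInstance : CompactSpace (f ⁻¹ᵁ V))
  haveI : Nonempty V := ⟨⟨_, hηV⟩⟩
  let q : Spec R ⟶ Spec Γ(Y, V) := c ≫ (f ∣_ V) ≫ hV.isoSpec.hom
  obtain ⟨ψ, hψ⟩ := Spec.homEquiv.symm.surjective q
  have hd : DenseRange q := by
    have h1 : Dense (Set.range (f ∣_ V)) := by
      have : Set.range (f ∣_ V) = (Subtype.val : V → Y) ⁻¹' Set.range f := by
        rw [morphismRestrict_base]
        exact Set.range_restrictPreimage _ _
      rw [this]
      exact f.denseRange.preimage V.2.isOpenMap_subtype_val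
    have h2 : DenseRange (c ≫ (f ∣_ V)) := by
      rw [DenseRange, Scheme.Hom.comp_base, TopCat.coe_comp, Set.range_comp, hc.range_eq, Set.image_univ]
      exact h1
    exact hV.isoSpec.hom.surjective.denseRange.comp h2 hV.isoSpec.hom.continuous
  have hd' : DenseRange (PrimeSpectrum.comap ψ.hom) := by rw [← hψ] at hd; exact hd
  obtain ⟨r, hr⟩ := (PrimeSpectrum.denseRange_comap_iff_minimalPrimes _).1 hd' ⊥
    (by rw [IsDomain.minimalPrimes_eq_singleton_bot]; exact Set.mem_singleton _)
  refine ⟨(f ⁻¹ᵁ V).ι (c r), ?_⟩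
  have h3 : hV.isoSpec.hom ((f ∣_ V) (c r)) = (⟨⊥, Ideal.isPrime_bot⟩ : PrimeSpectrum Γ(Y, V)) := by
    change q r = _
    rw [← hψ]
    exact hr
  have h4 : hV.fromSpec (hV.isoSpec.hom ((f ∣_ V) (c r))) = f ((f ⁻¹ᵁ V).ι (c r)) := by
    rw [← Scheme.Hom.comp_apply, hV.isoSpec_hom_fromSpec, ← Scheme.Hom.comp_apply, morphismRestrict_ι]
    rfl
  rw [← h4, h3]
  apply ((genericPoint_spec Y).eq ?_).symm
  have h5 : IsGenericPoint (⟨⊥, Ideal.isPrime_bot⟩ : PrimeSpectrum Γ(Y, V)) Set.univ := by
    rw [isGenericPoint_def, PrimeSpectrum.closure_singleton, Submodule.bot_coe, PrimeSpectrum.zeroLocus_singleton_zero]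
  refine Eq.trans ?_ (dense_iff_closure_eq.1 (V.2.dense ⟨_, hηV⟩))
  have h6 := h5.image hV.fromSpec.continuous
  exact h6.def.trans (congrArg closure (Set.image_univ.trans hV.range_fromSpec))

end Groth.Agent.UnibranchEtale
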