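import Mathlib
import Groth.Agent.UnibranchEtale.Components
import Groth.Agent.EtaleSections.Basic

/-!
Rational sections of separated unramified morphisms at geometrically unibranch points.
-/

set_option autoImplicit false
set_option linter.style.haveILetI false

universe u

open CategoryTheory AlgebraicGeometry Limits TopologicalSpace

namespace Groth.Agent.UnibranchEtale

variable {X Y : Scheme.{u}}

theorem finite_components_of_locallyFinite
    (hcomp : LocallyFinite (fun Z : ↥(irreducibleComponents ↥Y) => (Z : Set ↥Y))) (y : Y) :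
    ∃ U : Y.Opens, y ∈ U ∧ (irreducibleComponents ↥U).Finite := by
  obtain ⟨t, ht, hfin⟩ := hcomp y
  obtain ⟨o, hot, ho, hyo⟩ := mem_nhds_iff.1 ht
  refine ⟨⟨o, ho⟩, hyo, ?_⟩
  have key : ∀ C ∈ irreducibleComponents ↥(⟨o, ho⟩ : Y.Opens), ∃ c : (⟨o, ho⟩ : Y.Opens),
      IsGenericPoint c C ∧ closure ({c.1} : Set Y) ∈ irreducibleComponents Y := by
    intro C hC
    obtain ⟨c, hc, hmax⟩ := exists_generic (Y := Scheme.Opens.toScheme (X := Y) ⟨o, ho⟩) hC
    refine ⟨c, hc, mem_components_of_maximal fun z hz => ?_⟩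
    have hzo : z ∈ o := hz.mem_open ho c.2
    exact congrArg Subtype.val (hmax ⟨z, hzo⟩ ((Topology.IsInducing.subtypeVal.specializes_iff).1 hz))
  choose c hc hc' using key
  refine Set.finite_coe_iff.1 ?_
  haveI : Finite {Z : ↥(irreducibleComponents ↥Y) // ((Z : Set Y) ∩ t).Nonempty} := hfin.to_subtype
  let F : ↥(irreducibleComponents ↥(⟨o, ho⟩ : Y.Opens)) →
      {Z : ↥(irreducibleComponents ↥Y) // ((Z : Set Y) ∩ t).Nonempty} := fun C =>
    ⟨⟨_, hc' C.1 C.2⟩, ⟨(c C.1 C.2).1, subset_closure rfl, hot (c C.1 C.2).2⟩⟩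
  refine Finite.of_injective F fun C D h => Subtype.ext ?_
  have h1 : closure ({(c C.1 C.2).1} : Set Y) = closure {(c D.1 D.2).1} :=
    congrArg (fun Z : {Z : ↥(irreducibleComponents ↥Y) // ((Z : Set Y) ∩ t).Nonempty} => (Z.1 : Set Y)) h
  have h2 : (c C.1 C.2).1 = (c D.1 D.2).1 :=
    (show IsGenericPoint (c C.1 C.2).1 (closure {(c D.1 D.2).1}) from h1).eq isGenericPoint_closure
  rw [← (hc C.1 C.2).def, ← (hc D.1 D.2).def, Subtype.ext h2]

variable (f : X ⟶ Y) (U : Y.Opens) (u : (U : Scheme.{u}) ⟶ X) (hu : u ≫ f = U.ι)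

include hu in
theorem f_comp_section (t : U) : f (u t) = t.1 := by
  rw [← Scheme.Hom.comp_apply, hu]
  rfl

include hu in
theorem isOpenImmersion_of_section [LocallyOfFiniteType f] [FormallyUnramified f] : IsOpenImmersion u := by
  have hr : Set.range u ⊆ Set.range (f ⁻¹ᵁ U).ι := by
    rw [Scheme.Opens.range_ι]
    rintro _ ⟨t, rfl⟩
    change f (u t) ∈ U
    rw [f_comp_section f U u hu t]
    exact t.2
  let s := IsOpenImmersion.lift (f ⁻¹ᵁ U).ι u hr
  have hs : s ≫ (f ⁻¹ᵁ U).ι = u := IsOpenImmersion.lift_fac _ _ _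
  haveI : FormallyUnramified (f ∣_ U) := IsZariskiLocalAtTarget.restrict ‹_› U
  haveI : LocallyOfFiniteType (f ∣_ U) := IsZariskiLocalAtTarget.restrict ‹_› U
  haveI : IsOpenImmersion s := EtaleSections.isOpenImmersion_section (f ∣_ U) s (by
    rw [← cancel_mono U.ι, Category.assoc, morphismRestrict_ι, reassoc_of% hs, hu, Category.id_comp])
  rw [← hs]
  infer_instance

include hu in
theorem eq_of_mem_range [LocallyOfFiniteType f] [FormallyUnramified f] {T : Scheme.{u}} (a : T ⟶ X)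
    (ha : Set.range a ⊆ Set.range u) : ∃ b : T ⟶ (U : Scheme.{u}), a = b ≫ u ∧ b ≫ U.ι = a ≫ f := by
  haveI := isOpenImmersion_of_section f U u hu
  exact ⟨IsOpenImmersion.lift u a ha, (IsOpenImmersion.lift_fac _ _ _).symm, by
    rw [← hu, IsOpenImmersion.lift_fac_assoc]⟩

include hu in
theorem eq_of_range_subset [LocallyOfFiniteType f] [FormallyUnramified f] {T : Scheme.{u}} (a b : T ⟶ X)
    (h : a ≫ f = b ≫ f) (ha : Set.range a ⊆ Set.range u) (hb : Set.range b ⊆ Set.range u) : a = b := by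
  obtain ⟨a', rfl, ha'⟩ := eq_of_mem_range f U u hu a ha
  obtain ⟨b', rfl, hb'⟩ := eq_of_mem_range f U u hu b hb
  rw [← ha', ← hb', cancel_mono] at h
  rw [h]

include hu in
/-- The rational section extends at a closure point over a geometrically unibranch point. -/
theorem exists_extension [IsReduced Y]
    (hcomp : LocallyFinite (fun Z : ↥(irreducibleComponents ↥Y) => (Z : Set ↥Y)))
    [IsSeparated f] [LocallyOfFiniteType f] [FormallyUnramified f] (hU : Dense (U : Set ↥Y))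
    (x : X) (hy : CAlg2.IsGeomUnibranch (Y.presheaf.stalk (f x))) (hx : x ∈ closure (Set.range u)) :
    ∃ (V : Y.Opens) (v : (V : Scheme.{u}) ⟶ X) (hxV : f x ∈ V), v ≫ f = V.ι ∧
      Y.homOfLE (inf_le_left : U ⊓ V ≤ U) ≫ u = Y.homOfLE (inf_le_right : U ⊓ V ≤ V) ≫ v ∧
      v ⟨f x, hxV⟩ = x := by
  obtain ⟨η, hη, hmax⟩ := exists_generic (irreducibleComponent_mem_irreducibleComponents (f x))
  have hηy : η ⤳ f x := hη.specializes mem_irreducibleComponent
  obtain ⟨V₀, hyV₀, hV₀⟩ := Unibranch.exists_opens_forall_specializes hy hηy hmax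
    (finite_components_of_locallyFinite hcomp (f x))
  have hηV₀ : η ∈ V₀ := hηy.mem_open V₀.2 hyV₀
  obtain ⟨t₀, ht₀V, ht₀U⟩ := hU.inter_open_nonempty (V₀ : Set Y) V₀.2 ⟨_, hyV₀⟩
  have hηU : η ∈ U := (hV₀ t₀ ht₀V).mem_open U.2 ht₀U
  let ξ : X := u ⟨η, hηU⟩
  have hfξ : f ξ = η := f_comp_section f U u hu ⟨η, hηU⟩
  have hξx : ξ ⤳ x := by
    rw [specializes_iff_forall_open]
    intro O hO hxO
    obtain ⟨_, ⟨hzO, hzV⟩, ⟨t, rfl⟩⟩ := mem_closure_iff.1 hx (O ∩ (f ⁻¹ᵁ V₀ : X.Opens)) (hO.inter (f ⁻¹ᵁ V₀).2)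
      ⟨hxO, hyV₀⟩
    have h1 : η ⤳ t.1 := hV₀ _ (by
      have : f (u t) ∈ V₀ := hzV
      rwa [f_comp_section f U u hu t] at this)
    have h2 : (⟨η, hηU⟩ : U) ⤳ t := (Topology.IsInducing.subtypeVal.specializes_iff).1 h1
    exact (h2.map u.continuous).mem_open hO hzO
  -- the base near `f x` is integral
  have hgen : ∀ z : V₀, (⟨η, hηV₀⟩ : V₀) ⤳ z := fun z =>
    (Topology.IsInducing.subtypeVal.specializes_iff).1 (hV₀ z.1 z.2)
  haveI : Nonempty V₀ := ⟨⟨η, hηV₀⟩⟩
  haveI : IrreducibleSpace V₀.toScheme := (irreducibleSpace_def V₀).2 (by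
    have : closure ({(⟨η, hηV₀⟩ : V₀)} : Set V₀) = Set.univ :=
      Set.eq_univ_of_forall fun z => (hgen z).mem_closure
    rw [Set.top_eq_univ, ← this]
    exact isIrreducible_singleton.closure)
  haveI : IsIntegral V₀.toScheme := isIntegral_of_irreducibleSpace_of_isReduced _
  have hgp : (⟨η, hηV₀⟩ : V₀) = genericPoint V₀.toScheme :=
    (IsGenericPoint.eq (show IsGenericPoint (⟨η, hηV₀⟩ : V₀) (Set.univ : Set V₀) from
      Set.eq_univ_of_forall fun z => (hgen z).mem_closure) (genericPoint_spec V₀.toScheme))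
  have hy' : CAlg2.IsGeomUnibranch (V₀.toScheme.presheaf.stalk ⟨f x, hyV₀⟩) :=
    isGeomUnibranch_stalk_of_etale V₀.ι _ hy
  let f₀ := f ∣_ V₀
  haveI : FormallyUnramified f₀ := IsZariskiLocalAtTarget.restrict ‹_› V₀
  haveI : LocallyOfFiniteType f₀ := IsZariskiLocalAtTarget.restrict ‹_› V₀
  have hf₀ : ∀ z, (f₀ z).1 = f z.1 := fun z => by
    change V₀.ι (f₀ z) = _
    rw [← Scheme.Hom.comp_apply, morphismRestrict_ι]
    rfl
  have hξV : ξ ∈ f ⁻¹ᵁ V₀ := by
    change f ξ ∈ V₀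
    rw [hfξ]
    exact hηV₀
  have hy'' : CAlg2.IsGeomUnibranch (V₀.toScheme.presheaf.stalk (f₀ ⟨x, hyV₀⟩)) := by
    rw [show f₀ ⟨x, hyV₀⟩ = (⟨f x, hyV₀⟩ : V₀) from Subtype.ext (hf₀ _)]
    exact hy'
  obtain ⟨W₀, hxW₀, hW₀⟩ := exists_etale_of_generization f₀ ⟨x, hyV₀⟩ hy''
    ⟨⟨ξ, hξV⟩, (Topology.IsInducing.subtypeVal.specializes_iff).1 hξx, by
      rw [← hgp]
      exact Subtype.ext ((hf₀ _).trans hfξ)⟩
    ⟨⊤, trivial, MorphismProperty.comp_mem @FormallyUnramified _ _ (HasRingHomProperty.of_isOpenImmersion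
      (P := @FormallyUnramified) RingHom.FormallyUnramified.holdsForLocalizationAway.containsIdentities) ‹_›⟩
  haveI := hW₀
  set h₀ := W₀.ι ≫ f₀
  haveI := locallyQuasiFinite_of_unramified h₀
  have hξW₀ : (⟨ξ, hξV⟩ : (f ⁻¹ᵁ V₀ : X.Opens)) ∈ W₀ :=
    ((Topology.IsInducing.subtypeVal.specializes_iff (x := (⟨ξ, hξV⟩ : (f ⁻¹ᵁ V₀ : X.Opens)))
      (y := ⟨x, hyV₀⟩)).1 hξx).mem_open W₀.2 hxW₀
  let ξ' : W₀ := ⟨⟨ξ, hξV⟩, hξW₀⟩
  let x' : W₀ := ⟨⟨x, hyV₀⟩, hxW₀⟩
  have hξ'x' : ξ' ⤳ x' := (Topology.IsInducing.subtypeVal.specializes_iff).1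
    ((Topology.IsInducing.subtypeVal.specializes_iff).1 hξx)
  have hξ'g : h₀ ξ' = genericPoint V₀.toScheme := by
    rw [← hgp]
    exact Subtype.ext ((hf₀ _).trans hfξ)
  have hx'GU : CAlg2.IsGeomUnibranch (W₀.toScheme.presheaf.stalk x') :=
    isGeomUnibranch_stalk_of_etale h₀ x' hy''
  obtain ⟨Q, hxQ, hQfin⟩ := finite_inter_fibre h₀ x' (genericPoint V₀.toScheme)
  let bad : Set W₀ := ⋃ t ∈ ((Q : Set W₀) ∩ h₀ ⁻¹' {genericPoint V₀.toScheme}) \ {ξ'}, closure {t}
  have hbad : IsClosed bad := (hQfin.subset Set.sdiff_subset).isClosed_biUnion fun t _ => isClosed_closure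
  have hx'bad : x' ∉ bad := by
    intro hh
    obtain ⟨t, ⟨⟨-, ht⟩, hne⟩, htx⟩ := Set.mem_iUnion₂.1 hh
    exact hne (maximal_unique hx'GU (specializes_iff_mem_closure.2 htx) hξ'x'
      (maximal_over_generic h₀ ht) (maximal_over_generic h₀ hξ'g))
  let W₁ : W₀.toScheme.Opens := ⟨(Q : Set W₀) ∩ badᶜ, Q.2.inter hbad.isOpen_compl⟩
  have honly : ∀ t : W₁, h₀ t.1 = genericPoint V₀.toScheme → t.1 = ξ' := by
    intro t ht
    by_contra hne
    exact t.2.2 (Set.mem_biUnion ⟨⟨t.2.1, ht⟩, hne⟩ (subset_closure rfl))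
  let h := W₁.ι ≫ h₀
  haveI : Etale h := inferInstance
  haveI : IsSeparated f₀ := IsZariskiLocalAtTarget.restrict ‹_› V₀
  haveI : IsSeparated h := inferInstance
  let j : W₁.toScheme ⟶ X := W₁.ι ≫ W₀.ι ≫ (f ⁻¹ᵁ V₀).ι
  have hjf : j ≫ f = h ≫ V₀.ι := by
    simp only [j, h, h₀, f₀, Category.assoc, morphismRestrict_ι]
  have hland : ∀ t : W₁, h t = genericPoint V₀.toScheme → j t ∈ Set.range u := by
    intro t ht
    refine ⟨⟨η, hηU⟩, ?_⟩
    have h1 := honly t ht
    change ξ = ((t.1).1).1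
    rw [h1]
  haveI : UniversallyInjective h := by
    rw [UniversallyInjective.iff_diagonal]
    refine ⟨fun z => ?_⟩
    obtain ⟨z', hz', hfz'⟩ := exists_generization_of_etale (pullback.fst h h ≫ h) (x := z) ⊤ trivial
    refine hz'.mem_closed (pullback.diagonal h).isClosedEmbedding.isClosed_range ?_
    let g := (pullback h h).fromSpecResidueField z'
    let a := g ≫ pullback.fst h h
    let b := g ≫ pullback.snd h h
    have hab : a ≫ h = b ≫ h := by simp only [a, b, Category.assoc, pullback.condition]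
    have hpt : ∀ k : Spec ((pullback h h).residueField z'), (a ≫ h) k = genericPoint V₀.toScheme := fun k => by
      simp only [a, Category.assoc, Scheme.Hom.comp_apply, g, Scheme.fromSpecResidueField_apply]
      exact hfz'
    have hmono : Mono j := inferInstance
    have h2 : a = b := by
      rw [← cancel_mono j]
      refine eq_of_range_subset f U u hu _ _ ?_ ?_ ?_
      · calc (a ≫ j) ≫ f = (a ≫ h) ≫ V₀.ι := by rw [Category.assoc a j f, hjf, Category.assoc a h V₀.ι]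
          _ = (b ≫ h) ≫ V₀.ι := congrArg (fun q => q ≫ V₀.ι) hab
          _ = (b ≫ j) ≫ f := by rw [Category.assoc b j f, hjf, Category.assoc b h V₀.ι]
      · rintro _ ⟨k, rfl⟩
        rw [Scheme.Hom.comp_apply]
        exact hland _ (hpt k)
      · rintro _ ⟨k, rfl⟩
        rw [Scheme.Hom.comp_apply]
        refine hland _ ?_
        have := hpt k
        rw [hab] at this
        exact this
    have h3 : g = a ≫ pullback.diagonal h := by
      refine pullback.hom_ext ?_ ?_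
      · rw [Category.assoc, pullback.diagonal_fst, Category.comp_id]
      · rw [Category.assoc, pullback.diagonal_snd, Category.comp_id]
        exact h2.symm
    refine ⟨a (⟨⊥, Ideal.isPrime_bot⟩ : PrimeSpectrum ((pullback h h).residueField z')), ?_⟩
    rw [← Scheme.Hom.comp_apply, ← h3]
    exact Scheme.fromSpecResidueField_apply _ _
  haveI : IsOpenImmersion h := EtaleSections.isOpenImmersion_of_etale_universallyInjective h
  let k := h ≫ V₀.ι
  haveI : IsOpenImmersion k := inferInstance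
  let V : Y.Opens := k.opensRange
  have hxV : f x ∈ V := ⟨⟨x', hxQ, hx'bad⟩, by
    change k _ = f x
    rw [show k = j ≫ f from hjf.symm, Scheme.Hom.comp_apply]
    rfl⟩
  let l := IsOpenImmersion.lift k V.ι (by rw [Scheme.Opens.range_ι]; exact subset_rfl)
  have hl : l ≫ k = V.ι := IsOpenImmersion.lift_fac _ _ _
  let v := l ≫ j
  have hv : v ≫ f = V.ι := by rw [Category.assoc, hjf]; exact hl
  have hvx : v ⟨f x, hxV⟩ = x := by
    have h1 : k (l ⟨f x, hxV⟩) = k ⟨x', hxQ, hx'bad⟩ := by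
      rw [← Scheme.Hom.comp_apply, hl]
      change f x = k _
      change f x = (h ≫ V₀.ι) _
      rw [← hjf, Scheme.Hom.comp_apply]
      rfl
    rw [Scheme.Hom.comp_apply, k.isOpenEmbedding.injective h1]
    rfl
  refine ⟨V, v, hxV, hv, ?_, hvx⟩
  set s := Y.homOfLE (inf_le_left : U ⊓ V ≤ U) ≫ u
  set t := Y.homOfLE (inf_le_right : U ⊓ V ≤ V) ≫ v
  have hst : s ≫ f = t ≫ f := by
    simp only [s, t, Category.assoc, hu, hv, Scheme.homOfLE_ι]
  have hVV₀ : ∀ z ∈ V, z ∈ V₀ := by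
    rintro _ ⟨w, rfl⟩
    exact (h w).2
  refine EtaleSections.eq_of_eqLocus_eq_univ f s t hst (Set.eq_univ_of_forall fun z => ?_)
  have hηV : η ∈ V := (hV₀ _ (hVV₀ _ z.2.2)).mem_open V.2 z.2.2
  let η' : (U ⊓ V : Y.Opens) := ⟨η, hηU, hηV⟩
  have hspec : η' ⤳ z := (Topology.IsInducing.subtypeVal.specializes_iff).1 (hV₀ _ (hVV₀ _ z.2.2))
  refine hspec.mem_closed (EtaleSections.isClosed_eqLocus f s t hst) ?_
  let g := (U ⊓ V : Y.Opens).toScheme.fromSpecResidueField η'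
  refine EtaleSections.range_subset_eqLocus f s t hst g ?_
    ⟨(⟨⊥, Ideal.isPrime_bot⟩ : PrimeSpectrum _), Scheme.fromSpecResidueField_apply _ _⟩
  refine eq_of_range_subset f U u hu _ _
    ((Category.assoc _ _ _).trans ((congrArg (fun q => g ≫ q) hst).trans (Category.assoc _ _ _).symm)) ?_ ?_
  · rintro _ ⟨w, rfl⟩
    simp only [s, Scheme.Hom.comp_apply]
    exact ⟨_, rfl⟩
  · rintro _ ⟨w, rfl⟩
    simp only [t, v, Scheme.Hom.comp_apply, g, Scheme.fromSpecResidueField_apply]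
    refine hland _ ?_
    rw [← hgp]
    refine Subtype.ext ?_
    change V₀.ι (h _) = η
    rw [← Scheme.Hom.comp_apply, ← Scheme.Hom.comp_apply]
    change (l ≫ k) _ = η
    rw [hl, ← Scheme.Hom.comp_apply, Scheme.homOfLE_ι]
    rfl

end Groth.Agent.UnibranchEtale
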