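import Groth.Agent.UnibranchEtale.Components

/-!
Irreducible components of a flat, locally quasi-finite scheme over a base.
-/

set_option autoImplicit false

universe u

open CategoryTheory AlgebraicGeometry TopologicalSpace

namespace Groth.Agent.UnibranchEtale

variable {X Y : Scheme.{u}}

/-- A point of a locally quasi-finite scheme over a maximal point is maximal. -/
theorem maximal_of_maximal_image (f : X ⟶ Y) [LocallyQuasiFinite f] {x : X}
    (hx : ∀ w : Y, w ⤳ f x → w = f x) : ∀ z : X, z ⤳ x → z = x := by
  intro z hz
  have hfz : f z = f x := hx _ (hz.map f.continuous)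
  haveI := (f.isDiscrete_preimage_singleton (f x)).to_subtype
  have := (Topology.IsInducing.subtypeVal.specializes_iff (x := (⟨z, hfz⟩ : f ⁻¹' {f x}))
    (y := ⟨x, rfl⟩)).1 hz
  exact congrArg Subtype.val this.eq

/-- The image of a maximal point under a generalizing map is maximal. -/
theorem maximal_image_of_flat (f : X ⟶ Y) [Flat f] {x : X}
    (hx : ∀ z : X, z ⤳ x → z = x) : ∀ w : Y, w ⤳ f x → w = f x := by
  intro w hw
  obtain ⟨z, hz, rfl⟩ := Flat.generalizingMap f hw
  rw [hx z hz]

theorem closure_mem_components_iff {x : X} :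
    closure ({x} : Set X) ∈ irreducibleComponents X ↔ ∀ z : X, z ⤳ x → z = x := by
  refine ⟨fun h z hz => ?_, mem_components_of_maximal⟩
  obtain ⟨η, hη, hmax⟩ := exists_generic h
  have : x = η := (show IsGenericPoint x (closure {x}) from rfl).eq hη
  exact this ▸ hmax z (this ▸ hz)

end Groth.Agent.UnibranchEtale
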