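import Mathlib
import Groth.Agent.Purity.SectionsNormal
import Groth.Agent.CurveNorm.Basic
import Groth.Agent.UnibranchEtale.Scheme
import Groth.Prelude.Def_FEt

/-!
Finite étale covers of a normal integral scheme and normalisation in the generic fibre.
-/

set_option autoImplicit false
set_option linter.style.haveILetI false

universe u

open CategoryTheory AlgebraicGeometry Limits TensorProduct

namespace Groth.Agent.UnibranchEtale

/-- A pushout along the fraction field mapping to a finite extension. -/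
theorem bijective_of_isPushout {A C K Q L : CommRingCat.{u}} {φC : A ⟶ C} {φK : A ⟶ K} {b : C ⟶ Q}
    {k : K ⟶ Q} (H : IsPushout φC φK b k) (β : Q ⟶ L) [IsDomain A]
    (hK : letI := φK.hom.toAlgebra; IsFractionRing A K)
    (hfin : (k ≫ β).hom.Finite) (hinj : Function.Injective (b ≫ β))
    (hint : ∀ l, (φC ≫ b ≫ β).hom.IsIntegralElem l → l ∈ Set.range (b ≫ β)) :
    Function.Bijective β := by
  letI := φC.hom.toAlgebra
  letI := φK.hom.toAlgebra
  haveI : IsFractionRing A K := hK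
  letI := b.hom.toAlgebra
  letI := k.hom.toAlgebra
  letI : Algebra A Q := (φC ≫ b).hom.toAlgebra
  haveI : IsScalarTower A C Q := .of_algebraMap_eq fun _ => rfl
  haveI : IsScalarTower A K Q := .of_algebraMap_eq fun r => ConcreteCategory.congr_hom H.w r
  haveI : Algebra.IsPushout A C K Q := CommRingCat.isPushout_iff_isPushout.1 H
  let e : C ⊗[A] K ≃ₐ[C] Q := Algebra.IsPushout.equiv A C K Q
  have key : ∀ z : Q, ∃ (a : A) (_ : a ∈ nonZeroDivisors A) (c : C), z * k (φK a) = b c := by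
    intro z
    obtain ⟨z, rfl⟩ := e.surjective z
    induction z with
    | zero => exact ⟨1, one_mem _, 0, by simp⟩
    | tmul x y =>
      obtain ⟨⟨r, s⟩, h⟩ := IsLocalization.surj (nonZeroDivisors A) y
      refine ⟨s, s.2, x * φC r, ?_⟩
      rw [Algebra.IsPushout.equiv_tmul]
      change b x * k y * k (φK s.1) = b (x * φC r)
      change y * φK s.1 = φK r at h
      rw [mul_assoc, ← map_mul, h, map_mul]
      exact congrArg (b x * ·) (ConcreteCategory.congr_hom H.w r).symm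
    | add z w hz hw =>
      obtain ⟨a, ha, c, hc⟩ := hz
      obtain ⟨a', ha', c', hc'⟩ := hw
      refine ⟨a * a', mul_mem ha ha', c * φC a' + c' * φC a, ?_⟩
      have hw' : ∀ r, b (φC r) = k (φK r) := fun r => ConcreteCategory.congr_hom H.w r
      rw [map_add, map_mul φK.hom, map_mul k.hom, map_add b.hom, map_mul b.hom, map_mul b.hom, ← hc, ← hc', hw', hw']
      ring
  refine ⟨(injective_iff_map_eq_zero β.hom).2 fun z hz => ?_, fun l => ?_⟩
  · obtain ⟨a, ha, c, hc⟩ := key z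
    have hu : IsUnit (k (φK a)) := (IsLocalization.map_units K (⟨a, ha⟩ : nonZeroDivisors A)).map k.hom
    have h1 : (b ≫ β) c = 0 := by
      change β (b c) = 0
      rw [← hc, map_mul, hz, zero_mul]
    rw [(injective_iff_map_eq_zero (b ≫ β).hom).1 hinj c h1, map_zero] at hc
    exact hu.mul_left_eq_zero.1 hc
  · letI := (k ≫ β).hom.toAlgebra
    letI : Algebra A L := (φC ≫ b ≫ β).hom.toAlgebra
    haveI : IsScalarTower A K L := .of_algebraMap_eq fun r =>
      congrArg β (ConcreteCategory.congr_hom H.w r)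
    haveI : Module.Finite K L := hfin
    obtain ⟨⟨a, ha⟩, hs⟩ := IsIntegral.exists_multiple_integral_of_isLocalization (nonZeroDivisors A) l
      (Algebra.IsIntegral.isIntegral (R := K) l)
    obtain ⟨c, hc⟩ := hint _ hs
    obtain ⟨v, hv⟩ := (IsLocalization.map_units K (⟨a, ha⟩ : nonZeroDivisors A)).exists_left_inv
    refine ⟨k v * b c, ?_⟩
    rw [map_mul]
    change β (k v) * (b ≫ β) c = l
    rw [hc, Submonoid.smul_def, Algebra.smul_def, ← mul_assoc, IsScalarTower.algebraMap_apply A K L]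
    change β (k v) * β (k (φK a)) * l = l
    change v * φK a = 1 at hv
    rw [← map_mul, ← map_mul, hv, map_one, map_one, one_mul]

variable {X : Scheme.{u}} [IsIntegral X] (hX : ∀ x : X, IsIntegrallyClosed (X.presheaf.stalk x))
  {L : Type u} [Field L] (φ : X.functionField →+* L) (g : Spec (CommRingCat.of L) ⟶ X)
  [QuasiCompact g] [QuasiSeparated g]

omit [QuasiCompact g] [QuasiSeparated g] in
theorem genericPoint_facts (V : X.Opens) (hV : IsAffineOpen V) [Nonempty V] :
    X.fromSpecStalk (genericPoint X) ⁻¹ᵁ V = ⊤ ∧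
      letI := ((X.fromSpecStalk (genericPoint X)).app V).hom.toAlgebra
      IsFractionRing Γ(X, V) Γ(Spec (X.presheaf.stalk (genericPoint X)), X.fromSpecStalk (genericPoint X) ⁻¹ᵁ V) := by
  set f := X.fromSpecStalk (genericPoint X)
  have hη : genericPoint X ∈ V :=
    ((genericPoint_spec X).mem_open_set_iff V.2).2 (by simpa [Set.nonempty_coe_sort] using ‹Nonempty V›)
  have htop : f ⁻¹ᵁ V = ⊤ := by
    refine top_le_iff.1 fun z _ => ?_
    have hz : f z ∈ Set.range f := ⟨z, rfl⟩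
    rw [Scheme.range_fromSpecStalk] at hz
    exact hz.mem_open V.2 hη
  refine ⟨htop, ?_⟩
  letI := (f.app V).hom.toAlgebra
  haveI := functionField_isFractionRing_of_isAffineOpen X V hV
  let m := (Scheme.ΓSpecIso (X.presheaf.stalk (genericPoint X))).inv ≫
    (Spec (X.presheaf.stalk (genericPoint X))).presheaf.map (homOfLE (le_top : f ⁻¹ᵁ V ≤ ⊤)).op
  haveI : IsIso ((Spec (X.presheaf.stalk (genericPoint X))).presheaf.map (homOfLE (le_top : f ⁻¹ᵁ V ≤ ⊤)).op) := by
    rw [show homOfLE (le_top : f ⁻¹ᵁ V ≤ ⊤) = eqToHom htop from rfl]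
    infer_instance
  let e : X.functionField ≃ₐ[Γ(X, V)] Γ(Spec (X.presheaf.stalk (genericPoint X)), f ⁻¹ᵁ V) :=
    AlgEquiv.ofRingEquiv (f := RingEquiv.ofBijective m.hom (ConcreteCategory.bijective_of_isIso m)) fun r =>
      (ConcreteCategory.congr_hom (Scheme.fromSpecStalk_app (X := X) (U := V) hη) r).symm
  exact IsLocalization.isLocalization_of_algEquiv (nonZeroDivisors Γ(X, V)) e

include hX in
/-- If some finite étale cover restricts to `Spec L`, the normalisation in `L` is finite étale. -/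
theorem finite_etale_of_restrict {E : Scheme.{u}} (π : E ⟶ X) [IsFinite π] [Etale π]
    (e : pullback π (X.fromSpecStalk (genericPoint X)) ≅ Spec (CommRingCat.of L))
    (he : g = e.inv ≫ pullback.fst π (X.fromSpecStalk (genericPoint X)) ≫ π) :
    IsFinite g.fromNormalization ∧ Etale g.fromNormalization := by
  generalize hf : X.fromSpecStalk (genericPoint X) = f at e he
  set j := e.inv ≫ pullback.fst π f with hjdef
  have hj : g = j ≫ π := by rw [he, hjdef, Category.assoc]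
  have key : ∀ V : X.Opens, IsAffineOpen V →
      (g.fromNormalization.app V).hom.Finite ∧ (g.fromNormalization.app V).hom.Etale := by
    intro V hV
    have hWV : IsAffineOpen (f ⁻¹ᵁ V) := by
      rcases isEmpty_or_nonempty V with h | h
      · have : f ⁻¹ᵁ V = ⊥ := le_bot_iff.1 fun x hx => h.false ⟨_, hx⟩
        rw [this]
        exact isAffineOpen_bot _
      · rw [← hf, (genericPoint_facts V hV).1]
        exact isAffineOpen_top _
    obtain ⟨h1, h2⟩ := Purity.generic_sections f π hV hWV fun hne => by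
      haveI := hne
      subst hf
      exact ⟨inferInstance, Groth.Agent.NormSect.isIntegrallyClosed_sections V fun x _ => hX x,
        (genericPoint_facts V hV).2⟩
    have hle : g ⁻¹ᵁ V ≤ j ⁻¹ᵁ π ⁻¹ᵁ V := by rw [hj]; rfl
    let β := j.appLE (π ⁻¹ᵁ V) (g ⁻¹ᵁ V) hle
    have hle2 : g ⁻¹ᵁ V ≤ e.inv ⁻¹ᵁ pullback.fst π f ⁻¹ᵁ π ⁻¹ᵁ V := hle
    have hβ : β = (pullback.fst π f).app (π ⁻¹ᵁ V) ≫
        e.inv.appLE (pullback.fst π f ⁻¹ᵁ π ⁻¹ᵁ V) (g ⁻¹ᵁ V) hle2 := by
      simp only [β, hjdef, Scheme.Hom.comp_appLE]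
    haveI : IsIso (e.inv.appLE (pullback.fst π f ⁻¹ᵁ π ⁻¹ᵁ V) (g ⁻¹ᵁ V) hle2) := by
      rw [Scheme.Hom.appLE]
      haveI : IsIso ((Spec (CommRingCat.of L)).presheaf.map (homOfLE hle2).op) := by
        rw [show homOfLE hle2 = eqToHom (le_antisymm hle2 (by rw [hj]; rfl)) from rfl]
        infer_instance
      infer_instance
    set r := e.inv.appLE (pullback.fst π f ⁻¹ᵁ π ⁻¹ᵁ V) (g ⁻¹ᵁ V) hle2
    have hr := ConcreteCategory.bijective_of_isIso r
    have hg : g.app V = π.app V ≫ β := by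
      simp only [β, Scheme.Hom.app_eq_appLE, Scheme.Hom.appLE_comp_appLE, ← hj]
    letI := (g.app V).hom.toAlgebra
    letI := (π.app V).hom.toAlgebra
    let β' : Γ(E, π ⁻¹ᵁ V) →ₐ[Γ(X, V)] Γ(Spec (CommRingCat.of L), g ⁻¹ᵁ V) :=
      { β.hom with commutes' := fun a => (ConcreteCategory.congr_hom hg a).symm }
    have hinj : Function.Injective β' := by
      change Function.Injective β
      rw [hβ]
      exact hr.1.comp h1
    haveI : Module.Finite Γ(X, V) Γ(E, π ⁻¹ᵁ V) := π.finite_app V hV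
    haveI : Algebra.Etale Γ(X, V) Γ(E, π ⁻¹ᵁ V) := by
      have h := π.etale_appLE hV (hV.preimage π) le_rfl
      rw [← π.app_eq_appLE] at h
      exact h
    have hrange : β'.range = integralClosure Γ(X, V) Γ(Spec (CommRingCat.of L), g ⁻¹ᵁ V) := by
      refine le_antisymm ?_ fun y hy => ?_
      · rintro _ ⟨x, rfl⟩
        exact (Algebra.IsIntegral.isIntegral x).map β'
      · obtain ⟨t, rfl⟩ := hr.2 y
        obtain ⟨p, hp, hp0⟩ := hy
        obtain ⟨x, hx⟩ := h2 t ⟨p, hp, hr.1 (by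
          rw [map_zero, Polynomial.hom_eval₂]
          refine Eq.trans ?_ hp0
          congr 1
          change r.hom.comp ((π.app V ≫ (pullback.fst π f).app (π ⁻¹ᵁ V)).hom) = (g.app V).hom
          rw [hg, hβ]
          rfl)⟩
        refine ⟨x, ?_⟩
        change β x = r t
        rw [hβ, ← hx]
        rfl
    let eC : Γ(E, π ⁻¹ᵁ V) ≃ₐ[Γ(X, V)] integralClosure Γ(X, V) Γ(Spec (CommRingCat.of L), g ⁻¹ᵁ V) :=
      (AlgEquiv.ofInjective β' hinj).trans (Subalgebra.equivOfEq _ _ hrange)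
    haveI : Module.Finite Γ(X, V) (integralClosure Γ(X, V) Γ(Spec (CommRingCat.of L), g ⁻¹ᵁ V)) :=
      Module.Finite.equiv eC.toLinearEquiv
    haveI : Algebra.Etale Γ(X, V) (integralClosure Γ(X, V) Γ(Spec (CommRingCat.of L), g ⁻¹ᵁ V)) :=
      Algebra.Etale.of_equiv eC
    rw [g.fromNormalization_app hV, CommRingCat.hom_comp, CommRingCat.hom_ofHom]
    refine ⟨RingHom.Finite.comp (RingHom.Finite.of_surjective _
      (g.normalizationObjIso hV).symm.commRingCatIsoToRingEquiv.surjective)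
        (RingHom.finite_algebraMap.2 inferInstance), ?_⟩
    exact RingHom.Etale.respectsIso.1 _ (g.normalizationObjIso hV).symm.commRingCatIsoToRingEquiv
      (RingHom.etale_algebraMap.2 inferInstance)
  refine ⟨{ finite_app := fun V hV => (key V hV).1 }, ?_⟩
  rw [IsZariskiLocalAtTarget.iff_of_iSup_eq_top (P := @Etale) _ (iSup_affineOpens_eq_top X)]
  intro V
  rw [← Scheme.Hom.resLE_eq_morphismRestrict, resLE_iff_appLE _ @Etale (V.2.preimage _) V.2,
    ← Scheme.Hom.app_eq_appLE]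
  exact (key V V.2).2

/-- A finite étale normalisation restricts to `Spec L`. -/
theorem exists_restrict_iso (hφ : φ.Finite)
    (hg : g = Spec.map (CommRingCat.ofHom φ) ≫ X.fromSpecStalk (genericPoint X))
    [IsFinite g.fromNormalization] :
    ∃ i : Spec (CommRingCat.of L) ≅ pullback g.fromNormalization (X.fromSpecStalk (genericPoint X)),
      i.hom ≫ pullback.snd g.fromNormalization (X.fromSpecStalk (genericPoint X)) =
        Spec.map (CommRingCat.ofHom φ) := by
  set f := X.fromSpecStalk (genericPoint X)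
  set ν := g.fromNormalization
  set s := Spec.map (CommRingCat.ofHom φ) with hs
  set fst := pullback.fst ν f
  set snd := pullback.snd ν f
  let j : Spec (CommRingCat.of L) ⟶ pullback ν f :=
    pullback.lift g.toNormalization s (by rw [g.toNormalization_fromNormalization, hg])
  have hjfst : j ≫ fst = g.toNormalization := pullback.lift_fst _ _ _
  have hjsnd : j ≫ snd = s := pullback.lift_snd _ _ _
  suffices IsIso j from ⟨asIso j, hjsnd⟩
  obtain ⟨V, hV, hηV, -⟩ := exists_isAffineOpen_mem_and_subset (U := ⊤) (x := genericPoint X) trivial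
  haveI : Nonempty V := ⟨⟨_, hηV⟩⟩
  obtain ⟨htop, hfr⟩ := genericPoint_facts V hV
  haveI : IsAffine (pullback ν f) := isAffine_of_isAffineHom snd
  have hU : IsAffineOpen (ν ⁻¹ᵁ V) := hV.preimage ν
  have hpre : fst ⁻¹ᵁ ν ⁻¹ᵁ V = snd ⁻¹ᵁ f ⁻¹ᵁ V := by
    rw [← Scheme.Hom.comp_preimage, ← Scheme.Hom.comp_preimage]
    exact congrArg (fun h => h ⁻¹ᵁ V) pullback.condition
  have happ : ν.appLE V (ν ⁻¹ᵁ V) le_rfl = ν.app V := ν.app_eq_appLE.symm
  have hW : IsAffineOpen (f ⁻¹ᵁ V) := htop ▸ isAffineOpen_top _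
  have hpo : IsPushout (ν.app V) (f.app V) (fst.appLE (ν ⁻¹ᵁ V) (snd ⁻¹ᵁ f ⁻¹ᵁ V) hpre.ge) (snd.app (f ⁻¹ᵁ V)) := by
    have h := (isIso_pushoutSection_iff (IsPullback.of_hasPullback ν f) (le_refl (f ⁻¹ᵁ V)) (le_refl (ν ⁻¹ᵁ V))
      (UY := snd ⁻¹ᵁ f ⁻¹ᵁ V) (inf_eq_right.2 hpre.ge).symm).1
      (isIso_pushoutSection_of_isAffineOpen _ _ _ _ hV hW hU)
    rw [happ, ← f.app_eq_appLE, ← snd.app_eq_appLE] at h
    exact h
  have hWg : g ⁻¹ᵁ V = j ⁻¹ᵁ snd ⁻¹ᵁ f ⁻¹ᵁ V := by
    rw [← Scheme.Hom.comp_preimage, hjsnd, ← Scheme.Hom.comp_preimage, ← hg]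
  have hWN : g ⁻¹ᵁ V ≤ g.toNormalization ⁻¹ᵁ ν ⁻¹ᵁ V := by
    rw [← Scheme.Hom.comp_preimage, g.toNormalization_fromNormalization]
  let β := j.appLE (snd ⁻¹ᵁ f ⁻¹ᵁ V) (g ⁻¹ᵁ V) hWg.le
  have hb : fst.appLE (ν ⁻¹ᵁ V) (snd ⁻¹ᵁ f ⁻¹ᵁ V) hpre.ge ≫ β =
      g.toNormalization.appLE (ν ⁻¹ᵁ V) (g ⁻¹ᵁ V) hWN := by
    simp only [β, Scheme.Hom.appLE_comp_appLE, hjfst]
  letI := (g.app V).hom.toAlgebra
  have hval := g.normalizationObjIso_hom_val hV
  have hk : snd.app (f ⁻¹ᵁ V) ≫ β = s.appLE (f ⁻¹ᵁ V) (g ⁻¹ᵁ V) (by rw [hg]; rfl) := by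
    simp only [β, Scheme.Hom.app_eq_appLE, Scheme.Hom.appLE_comp_appLE, hjsnd]
  have hbij : Function.Bijective β := by
    haveI : IsDomain Γ(X, V) := inferInstance
    refine bijective_of_isPushout hpo β hfr ?_ ?_ ?_
    · rw [hk]
      haveI : IsFinite s := by rw [hs, IsFinite.SpecMap_iff]; exact hφ
      have h1 := s.finite_app (f ⁻¹ᵁ V) hW
      have heq : g ⁻¹ᵁ V = s ⁻¹ᵁ f ⁻¹ᵁ V := by rw [hg]; rfl
      haveI : IsIso ((Spec (CommRingCat.of L)).presheaf.map (homOfLE heq.le).op) := by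
        rw [show homOfLE heq.le = eqToHom heq from rfl]
        infer_instance
      rw [Scheme.Hom.appLE, CommRingCat.hom_comp]
      exact RingHom.Finite.comp (RingHom.Finite.of_surjective _
        (ConcreteCategory.bijective_of_isIso ((Spec (CommRingCat.of L)).presheaf.map (homOfLE heq.le).op)).2) h1
    · rw [hb]
      rw [← hval]
      exact Subtype.val_injective.comp (g.normalizationObjIso hV).commRingCatIsoToRingEquiv.injective
    · intro l hl
      rw [hb, ← hval]
      have hA : ν.app V ≫ fst.appLE (ν ⁻¹ᵁ V) (snd ⁻¹ᵁ f ⁻¹ᵁ V) hpre.ge ≫ β = g.app V := by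
        rw [hb]
        simp only [Scheme.Hom.app_eq_appLE, Scheme.Hom.appLE_comp_appLE, ν,
          g.toNormalization_fromNormalization]
      rw [hA] at hl
      refine ⟨(g.normalizationObjIso hV).inv ⟨l, hl⟩, ?_⟩
      change ((g.normalizationObjIso hV).inv ≫ (g.normalizationObjIso hV).hom) ⟨l, hl⟩ = (⟨l, hl⟩ : integralClosure Γ(X, V) Γ(Spec (CommRingCat.of L), g ⁻¹ᵁ V)).1
      rw [Iso.inv_hom_id]
      rfl
  haveI : IsIso β := (ConcreteCategory.isIso_iff_bijective β).2 hbij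
  haveI : IsIso (j.app (snd ⁻¹ᵁ f ⁻¹ᵁ V)) := by
    have h1 : β = j.app (snd ⁻¹ᵁ f ⁻¹ᵁ V) ≫ (Spec (CommRingCat.of L)).presheaf.map (homOfLE hWg.le).op := rfl
    haveI : IsIso ((Spec (CommRingCat.of L)).presheaf.map (homOfLE hWg.le).op) := by
      rw [show homOfLE hWg.le = eqToHom hWg from rfl]
      infer_instance
    haveI : IsIso (j.app (snd ⁻¹ᵁ f ⁻¹ᵁ V) ≫ (Spec (CommRingCat.of L)).presheaf.map (homOfLE hWg.le).op) := h1 ▸ ‹IsIso β›
    exact IsIso.of_isIso_comp_right _ ((Spec (CommRingCat.of L)).presheaf.map (homOfLE hWg.le).op)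
  have htopP : snd ⁻¹ᵁ f ⁻¹ᵁ V = ⊤ := by rw [htop]; rfl
  have hiso : ∀ U : (pullback ν f).Opens, IsIso (j.app U) → U = ⊤ → IsIso j.appTop := by
    rintro U h rfl; exact h
  haveI : IsIso j.appTop := hiso _ inferInstance htopP
  exact (MorphismProperty.arrow_mk_iso_iff (MorphismProperty.isomorphisms Scheme.{u})
    (arrowIsoSpecΓOfIsAffine j)).2 (inferInstanceAs (IsIso (Spec.map j.appTop)))

end Groth.Agent.UnibranchEtale
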